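import Mathlib
import Cfsg.Agent.Lib.SympWeil.LowerBound

/-! Functionals on symmetric matrices: rank one and the orbit bound beyond rank one. -/

set_option autoImplicit false
set_option linter.unusedSectionVars false

namespace CfsgLib.SympWeil

open Matrix Module

variable {F : Type*} [Field F] [DecidableEq F] {n : ℕ}

/-- The symmetrised product. -/
def symP (x y : Fin n → F) : Sym F n :=
  ⟨vecMulVec x y + vecMulVec y x, by
    show (vecMulVec x y + vecMulVec y x)ᵀ = _
    rw [transpose_add, transpose_vecMulVec, transpose_vecMulVec, add_comm]⟩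

theorem symP_comm (x y : Fin n → F) : symP x y = symP y x := Subtype.ext (add_comm _ _)

theorem symP_add (x y z : Fin n → F) : symP x (y + z) = symP x y + symP x z := Subtype.ext (by
  simp [symP, vecMulVec_add, add_vecMulVec]; abel)

theorem symP_smul (c : F) (x y : Fin n → F) : symP x (c • y) = c • symP x y := Subtype.ext (by
  simp [symP, vecMulVec_smul, smul_vecMulVec, smul_add])

/-- The bilinear form of a functional. -/
def Bf (l : Sym F n →ₗ[F] F) (x : Fin n → F) : (Fin n → F) →ₗ[F] F where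
  toFun y := l (symP x y)
  map_add' y z := by rw [symP_add, map_add]
  map_smul' c y := by rw [symP_smul, map_smul]; rfl

theorem Bf_comm (l : Sym F n →ₗ[F] F) (x y : Fin n → F) : Bf l x y = Bf l y x := congrArg l (symP_comm x y)

theorem Bf_addl (l : Sym F n →ₗ[F] F) (x y z : Fin n → F) : Bf l (x + y) z = Bf l x z + Bf l y z := by
  rw [Bf_comm, map_add, Bf_comm, Bf_comm l z y]

theorem Bf_smull (l : Sym F n →ₗ[F] F) (c : F) (x z : Fin n → F) : Bf l (c • x) z = c * Bf l x z := by
  rw [Bf_comm, map_smul, Bf_comm, smul_eq_mul]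

theorem Bf_cg (l : Sym F n →ₗ[F] F) (g : GL (Fin n) F) (x y : Fin n → F) :
    Bf (l.comp (cg g)) x y = Bf l (g.1 *ᵥ x) (g.1 *ᵥ y) := by
  show l (cg g (symP x y)) = l (symP _ _)
  congr 1
  refine Subtype.ext ?_
  show g.1 * (vecMulVec x y + vecMulVec y x) * g.1ᵀ =
    vecMulVec (g.1 *ᵥ x) (g.1 *ᵥ y) + vecMulVec (g.1 *ᵥ y) (g.1 *ᵥ x)
  rw [Matrix.mul_add, Matrix.add_mul, mul_vecMulVec, mul_vecMulVec, vecMulVec_mul, vecMulVec_mul,
    vecMul_transpose, vecMul_transpose]

theorem func_ext (h2 : (2 : F) ≠ 0) {l l' : Sym F n →ₗ[F] F}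
    (h : ∀ i j, Bf l (Pi.single i 1) (Pi.single j 1) = Bf l' (Pi.single i 1) (Pi.single j 1)) : l = l' := by
  refine LinearMap.ext fun S => ?_
  have hS : (2 : F) • S = ∑ i, ∑ j, S.1 i j • symP (Pi.single i 1) (Pi.single j 1) := by
    refine Subtype.ext (Matrix.ext fun a b => ?_)
    simp only [symP, Submodule.coe_sum, Submodule.coe_smul, Matrix.sum_apply, Matrix.smul_apply, Matrix.add_apply,
      vecMulVec_apply, smul_eq_mul, Pi.single_apply, mul_add, Finset.sum_add_distrib, mul_ite, ite_mul,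
      mul_one, one_mul, mul_zero, zero_mul, Finset.sum_ite_irrel, Finset.sum_const_zero, Finset.sum_ite_eq,
      Finset.mem_univ, if_true]
    have hsym : S.1 b a = S.1 a b := congrFun (congrFun S.2 a) b
    rw [hsym]
    ring
  have e : ∀ k : Sym F n →ₗ[F] F, (2 : F) * k S = ∑ i, ∑ j, S.1 i j * Bf k (Pi.single i 1) (Pi.single j 1) := fun k => by
    rw [← smul_eq_mul, ← map_smul, hS]
    simp only [map_sum, map_smul, smul_eq_mul]
    rfl
  exact mul_left_cancel₀ h2 (by rw [e, e]; simp only [h])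

/-- The functional `S ↦ c yᵀ S y`. -/
def rk1 (c : F) (y : Fin n → F) : Sym F n →ₗ[F] F where
  toFun S := c * (y ⬝ᵥ S.1 *ᵥ y)
  map_add' S T := by
    show c * (y ⬝ᵥ (S.1 + T.1) *ᵥ y) = _
    rw [add_mulVec, dotProduct_add, mul_add]
  map_smul' r S := by
    show c * (y ⬝ᵥ (r • S.1) *ᵥ y) = r • _
    rw [smul_mulVec, dotProduct_smul, smul_eq_mul, smul_eq_mul]; ring

theorem rk1_apply (c : F) (y : Fin n → F) (S : Sym F n) : rk1 c y S = c * (y ⬝ᵥ S.1 *ᵥ y) := rfl

theorem rk1_smul (c r : F) (y : Fin n → F) : rk1 c (r • y) = rk1 (c * r ^ 2) y := LinearMap.ext fun S => by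
  rw [rk1_apply, rk1_apply, mulVec_smul, smul_dotProduct, dotProduct_smul, smul_eq_mul, smul_eq_mul]; ring

theorem rk1_neg (c : F) (y : Fin n → F) : rk1 c (-y) = rk1 c y := by
  rw [← neg_one_smul F y, rk1_smul]; norm_num

theorem rk1_zero (c : F) : rk1 c (0 : Fin n → F) = 0 := LinearMap.ext fun S => by simp [rk1_apply]

theorem rk1_cg (c : F) (y : Fin n → F) (g : GL (Fin n) F) : (rk1 c y).comp (cg g) = rk1 c (g.1ᵀ *ᵥ y) :=
  LinearMap.ext fun S => by
    rw [LinearMap.comp_apply, rk1_apply, rk1_apply]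
    show c * (y ⬝ᵥ (g.1 * S.1 * g.1ᵀ) *ᵥ y) = _
    rw [← mulVec_mulVec, ← mulVec_mulVec, dotProduct_mulVec y g.1, ← mulVec_transpose]

theorem Bf_rk1 (c : F) (v x y : Fin n → F) : Bf (rk1 c v) x y = 2 * c * ((v ⬝ᵥ x) * (v ⬝ᵥ y)) := by
  show c * (v ⬝ᵥ (vecMulVec x y + vecMulVec y x) *ᵥ v) = _
  simp only [add_mulVec, vecMulVec_mulVec, op_smul_eq_smul, dotProduct_add, dotProduct_smul, smul_eq_mul,
    dotProduct_comm x v, dotProduct_comm y v]
  ring

theorem rk1_symP (c : F) (y : Fin n → F) (i j : Fin n) :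
    rk1 c y (symP (Pi.single i 1) (Pi.single j 1)) = 2 * c * (y i * y j) := by
  show Bf (rk1 c y) _ _ = _
  rw [Bf_rk1, dotProduct_single, dotProduct_single, mul_one, mul_one]

/-- Rank at most one. -/
def IsLow (l : Sym F n →ₗ[F] F) : Prop := ∃ c y, l = rk1 c y

/-- Proportionality from rank one agreement on a set of coordinates. -/
theorem rk1_agree {c c' : F} (hc : c ≠ 0) {y z : Fin n → F} (K : Set (Fin n)) {k : Fin n} (hk : k ∈ K)
    (hyk : y k ≠ 0) (h : ∀ a ∈ K, ∀ b ∈ K, c * (y a * y b) = c' * (z a * z b)) :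
    ∃ r : F, r ≠ 0 ∧ c = c' * r ^ 2 ∧ ∀ a ∈ K, z a = r * y a := by
  have h1 := h k hk k hk
  have hne : c' * (z k * z k) ≠ 0 := h1 ▸ mul_ne_zero hc (mul_ne_zero hyk hyk)
  have hzk : z k ≠ 0 := fun e => hne (by rw [e]; ring)
  refine ⟨z k / y k, div_ne_zero hzk hyk, ?_, fun a ha => ?_⟩
  · field_simp
    linear_combination h1
  · have h2 := h k hk a ha
    have hc' : c' ≠ 0 := fun e => hne (by rw [e, zero_mul])
    field_simp
    apply mul_left_cancel₀ (mul_ne_zero hc' hzk)
    linear_combination y a * h1 - y k * h2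

theorem rk1_eq (h2 : (2 : F) ≠ 0) {c c' : F} (hc : c ≠ 0) {y z : Fin n → F} (hy : y ≠ 0)
    (h : rk1 c y = rk1 c' z) : ∃ r : F, r ≠ 0 ∧ c = c' * r ^ 2 ∧ z = r • y := by
  obtain ⟨k, hk⟩ := Function.ne_iff.1 hy
  obtain ⟨r, hr, e, hz⟩ := rk1_agree hc (c' := c') (z := z) Set.univ (Set.mem_univ k) hk fun a _ b _ =>
    mul_left_cancel₀ h2 (by
      have := LinearMap.congr_fun h (symP (Pi.single a 1) (Pi.single b 1))
      rw [rk1_symP, rk1_symP] at this
      linear_combination this)
  exact ⟨r, hr, e, funext fun a => hz a (Set.mem_univ a)⟩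

theorem rk1_eq_same (h2 : (2 : F) ≠ 0) {c : F} (hc : c ≠ 0) {y z : Fin n → F} (hy : y ≠ 0)
    (h : rk1 c y = rk1 c z) : z = y ∨ z = -y := by
  obtain ⟨r, -, e, rfl⟩ := rk1_eq h2 hc hy h
  have : r ^ 2 = 1 := mul_left_cancel₀ hc (by linear_combination -e)
  rcases sq_eq_one_iff.1 this with rfl | rfl
  · exact Or.inl (one_smul _ _)
  · exact Or.inr (neg_one_smul _ _)

/-- Extending a two-coordinate projection to an invertible matrix. -/
theorem exists_frame {i j : Fin n} (hij : i ≠ j) (Φ : (Fin n → F) →ₗ[F] F × F) {e f : Fin n → F}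
    (he : Φ e = (1, 0)) (hf : Φ f = (0, 1)) :
    ∃ g : GL (Fin n) F, g.1 *ᵥ Pi.single i 1 = e ∧ g.1 *ᵥ Pi.single j 1 = f ∧
      ∀ x, Φ (g.1 *ᵥ x) = (x i, x j) := by
  let Ψ : (Fin n → F) →ₗ[F] F × F := (LinearMap.proj i).prod (LinearMap.proj j)
  have hsΦ : LinearMap.range Φ = ⊤ := LinearMap.range_eq_top.2 fun p =>
    ⟨p.1 • e + p.2 • f, by rw [map_add, map_smul, map_smul, he, hf]; simp⟩
  have hsΨ : LinearMap.range Ψ = ⊤ := LinearMap.range_eq_top.2 fun p =>
    ⟨p.1 • Pi.single i 1 + p.2 • Pi.single j 1, by simp [Ψ, hij, hij.symm]⟩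
  have hdim : finrank F (LinearMap.ker Ψ) = finrank F (LinearMap.ker Φ) := by
    have h1 := LinearMap.finrank_range_add_finrank_ker Φ
    have h2 := LinearMap.finrank_range_add_finrank_ker Ψ
    rw [hsΦ] at h1; rw [hsΨ] at h2
    omega
  let κ := LinearEquiv.ofFinrankEq (LinearMap.ker Ψ) (LinearMap.ker Φ) hdim
  let pr : (Fin n → F) →ₗ[F] LinearMap.ker Ψ :=
    ((LinearMap.id : (Fin n → F) →ₗ[F] (Fin n → F))
      - LinearMap.smulRight (LinearMap.proj i : (Fin n → F) →ₗ[F] F) (Pi.single i 1)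
      - LinearMap.smulRight (LinearMap.proj j : (Fin n → F) →ₗ[F] F) (Pi.single j 1)).codRestrict _ fun x => by
      simp [LinearMap.mem_ker, Ψ, hij, hij.symm]
  let T : (Fin n → F) →ₗ[F] (Fin n → F) :=
    LinearMap.smulRight (LinearMap.proj i) e + LinearMap.smulRight (LinearMap.proj j) f +
      (LinearMap.ker Φ).subtype ∘ₗ κ.toLinearMap ∘ₗ pr
  have hT : ∀ x, T x = x i • e + x j • f + ((κ (pr x)) : Fin n → F) := fun x => rfl
  have hΦT : ∀ x, Φ (T x) = (x i, x j) := fun x => by
    rw [hT, map_add, map_add, map_smul, map_smul, he, hf, LinearMap.mem_ker.1 (κ (pr x)).2]; simp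
  have hpr : ∀ x, (pr x : Fin n → F) = x - x i • Pi.single i 1 - x j • Pi.single j 1 := fun x => rfl
  have hinj : Function.Injective T := by
    rw [← LinearMap.ker_eq_bot, Submodule.eq_bot_iff]
    intro x hx
    rw [LinearMap.mem_ker] at hx
    have h0 := hΦT x
    rw [hx, map_zero] at h0
    obtain ⟨hi, hj⟩ := Prod.mk.inj h0.symm
    have h1 : κ (pr x) = 0 := Subtype.ext (by
      have := hT x
      rw [hx, hi, hj, zero_smul, zero_smul, zero_add, zero_add] at this
      exact this.symm)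
    have h2 := congrArg Subtype.val ((LinearEquiv.map_eq_zero_iff κ).1 h1)
    rw [hpr, hi, hj, zero_smul, zero_smul, sub_zero, sub_zero] at h2
    exact h2
  have hdet : IsUnit (LinearMap.toMatrix' T) := by
    rw [← Matrix.mulVec_injective_iff_isUnit]
    intro x y h
    simp only [LinearMap.toMatrix'_mulVec] at h
    exact hinj h
  refine ⟨hdet.unit, ?_, ?_, fun x => by rw [IsUnit.unit_spec, LinearMap.toMatrix'_mulVec]; exact hΦT x⟩
  · rw [IsUnit.unit_spec, LinearMap.toMatrix'_mulVec, hT,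
      show pr (Pi.single i 1) = 0 from Subtype.ext (by rw [hpr]; simp [hij, hij.symm])]
    simp [hij, hij.symm]
  · rw [IsUnit.unit_spec, LinearMap.toMatrix'_mulVec, hT,
      show pr (Pi.single j 1) = 0 from Subtype.ext (by rw [hpr]; simp [hij, hij.symm])]
    simp [hij, hij.symm]

/-- An orthogonal anisotropic pair gives a frame. -/
theorem frame_of_pair {i j : Fin n} (hij : i ≠ j) (l : Sym F n →ₗ[F] F) {e f : Fin n → F}
    (he : Bf l e e ≠ 0) (hf : Bf l f f ≠ 0) (hef : Bf l e f = 0) :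
    ∃ g : GL (Fin n) F, g.1 *ᵥ Pi.single i 1 = e ∧ g.1 *ᵥ Pi.single j 1 = f ∧
      (∀ x, Bf (l.comp (cg g)) (Pi.single i 1) x = Bf l e e * x i) ∧
      ∀ x, Bf (l.comp (cg g)) (Pi.single j 1) x = Bf l f f * x j := by
  obtain ⟨g, g1, g2, g3⟩ := exists_frame hij
    (((Bf l e e)⁻¹ • Bf l e).prod ((Bf l f f)⁻¹ • Bf l f)) (e := e) (f := f)
    (by simp [he, Bf_comm l f e, hef]) (by simp [hf, hef])
  refine ⟨g, g1, g2, fun x => ?_, fun x => ?_⟩
  · have := congrArg Prod.fst (g3 x)
    simp only [LinearMap.prod_apply, Function.prod_apply, LinearMap.smul_apply, smul_eq_mul] at this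
    rw [Bf_cg, g1, ← this]; field_simp
  · have := congrArg Prod.snd (g3 x)
    simp only [LinearMap.prod_apply, Function.prod_apply, LinearMap.smul_apply, smul_eq_mul] at this
    rw [Bf_cg, g2, ← this]; field_simp

variable [Fintype F]

theorem exists_binary (h2 : (2 : F) ≠ 0) {s t : F} (hs : s ≠ 0) (ht : t ≠ 0) (r : F) :
    ∃ x y : F, s * x ^ 2 + t * y ^ 2 = r := by
  have hodd : Fintype.card F % 2 = 1 := FiniteField.odd_card_of_char_ne_two fun h => h2 (by
    haveI := ringChar.of_eq h; exact CharTwo.two_eq_zero)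
  obtain ⟨x, y, hxy⟩ := FiniteField.exists_root_sum_quadratic (R := F)
    (f := Polynomial.C s * Polynomial.X ^ 2) (g := Polynomial.C t * Polynomial.X ^ 2 - Polynomial.C r)
    (Polynomial.degree_C_mul_X_pow 2 hs)
    (by
      rw [Polynomial.degree_sub_eq_left_of_degree_lt (lt_of_le_of_lt Polynomial.degree_C_le
        (by rw [Polynomial.degree_C_mul_X_pow 2 ht]; norm_num)), Polynomial.degree_C_mul_X_pow 2 ht]
      rfl)
    hodd
  refine ⟨x, y, ?_⟩
  simp only [Polynomial.eval_mul, Polynomial.eval_C, Polynomial.eval_pow, Polynomial.eval_X,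
    Polynomial.eval_sub] at hxy
  linear_combination hxy

theorem exists_pair_of_not_low (h2 : (2 : F) ≠ 0) (l : Sym F n →ₗ[F] F) (hl : ¬ IsLow l) :
    ∃ e f, Bf l e e ≠ 0 ∧ Bf l f f ≠ 0 ∧ Bf l e f = 0 := by
  have hpol : ∀ x y, (2 : F) * Bf l x y = Bf l (x + y) (x + y) - Bf l x x - Bf l y y := fun x y => by
    rw [Bf_addl, map_add, map_add, Bf_comm l y x]; ring
  obtain ⟨e, he⟩ : ∃ e, Bf l e e ≠ 0 := by
    by_contra h
    push Not at h
    refine hl ⟨0, 0, func_ext h2 fun i j => ?_⟩
    rw [Bf_rk1, mul_left_cancel₀ h2 (b := Bf l (Pi.single i 1) (Pi.single j 1)) (c := 0)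
      (by rw [hpol, h, h, h]; ring)]
    ring
  refine ⟨e, ?_⟩
  by_contra h
  push Not at h
  obtain ⟨a, ha⟩ : ∃ a, a = Bf l e e := ⟨_, rfl⟩
  have hz : ∀ x, Bf l x x = Bf l e x * Bf l e x / a := fun x => by
    obtain ⟨f, hf⟩ : ∃ f, f = x - (Bf l e x / a) • e := ⟨_, rfl⟩
    have hef : Bf l e f = 0 := by
      rw [hf, map_sub, map_smul, smul_eq_mul, ← ha, div_mul_cancel₀ _ (ha ▸ he), sub_self]
    have hff : Bf l f f = 0 := by_contra fun hne => h f he hne hef
    have hx : x = f + (Bf l e x / a) • e := by rw [hf, sub_add_cancel]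
    conv_lhs => rw [hx]
    rw [Bf_addl, map_add, map_add, Bf_smull, Bf_smull, map_smul, map_smul, hff, Bf_comm l f e, hef, ← ha,
      smul_eq_mul, smul_eq_mul]
    have := ha ▸ he
    field_simp
    ring
  refine hl ⟨(2 * a)⁻¹, fun k => Bf l e (Pi.single k 1), func_ext h2 fun i j => ?_⟩
  have := ha ▸ he
  rw [Bf_rk1, dotProduct_single, dotProduct_single, mul_one, mul_one]
  apply mul_left_cancel₀ h2
  rw [hpol, hz, hz, hz, map_add]
  field_simp
  ring

/-- At most `2 (q + 1)` pairs give the same binary form. -/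
theorem fibre_card {a d : F} (h2 : (2 : F) ≠ 0) (ha : a ≠ 0) (hd : d ≠ 0) :
    (Finset.univ.filter fun M : F × F × F × F =>
      a * M.1 ^ 2 + d * M.2.1 ^ 2 = a ∧ a * M.1 * M.2.2.1 + d * M.2.1 * M.2.2.2 = 0 ∧
        a * M.2.2.1 ^ 2 + d * M.2.2.2 ^ 2 = d).card ≤ 2 * (Fintype.card F + 1) := by
  classical
  refine (Finset.card_le_card_of_injOn (t := (Finset.univ : Finset (Option F × Bool)))
    (fun M => ((if M.1 = 1 then none else some (M.2.1 / (M.1 - 1))),
      decide (M.1 * M.2.2.2 - M.2.1 * M.2.2.1 = 1))) (fun _ _ => Finset.mem_univ _) ?_).trans ?_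
  · rintro ⟨A, C, B, D⟩ h ⟨A', C', B', D'⟩ h' e
    simp only [Finset.coe_filter, Finset.mem_univ, true_and, Set.mem_setOf_eq] at h h'
    obtain ⟨e1, e2⟩ := Prod.mk.inj e
    obtain ⟨p1, p2, p3⟩ := h
    obtain ⟨q1, q2, q3⟩ := h'
    have hA : A = A' ∧ C = C' := by
      by_cases hA : A = 1
      · rw [if_pos hA] at e1
        by_cases hA' : A' = 1
        · subst hA hA'
          have c1 : C ^ 2 = 0 := mul_left_cancel₀ hd (by linear_combination p1)
          have c2 : C' ^ 2 = 0 := mul_left_cancel₀ hd (by linear_combination q1)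
          exact ⟨rfl, by rw [pow_eq_zero_iff two_ne_zero |>.1 c1, pow_eq_zero_iff two_ne_zero |>.1 c2]⟩
        · rw [if_neg hA'] at e1; exact absurd e1 (by simp)
      · rw [if_neg hA] at e1
        by_cases hA' : A' = 1
        · rw [if_pos hA'] at e1; exact absurd e1 (by simp)
        · rw [if_neg hA', Option.some.injEq] at e1
          simp only at e1 hA hA'
          obtain ⟨t, ht⟩ : ∃ t, t = C / (A - 1) := ⟨_, rfl⟩
          have hC : C = t * (A - 1) := by rw [ht, div_mul_cancel₀ _ (sub_ne_zero.2 hA)]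
          have hC' : C' = t * (A' - 1) := by rw [ht, e1, div_mul_cancel₀ _ (sub_ne_zero.2 hA')]
          have r1 : a * (A + 1) + d * t ^ 2 * (A - 1) = 0 := by
            apply mul_left_cancel₀ (sub_ne_zero.2 hA)
            rw [hC] at p1
            linear_combination p1
          have r2 : a * (A' + 1) + d * t ^ 2 * (A' - 1) = 0 := by
            apply mul_left_cancel₀ (sub_ne_zero.2 hA')
            rw [hC'] at q1
            linear_combination q1
          have hne : a + d * t ^ 2 ≠ 0 := fun h0 => mul_ne_zero h2 ha (by linear_combination r1 + (1 - A) * h0)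
          have : A = A' := mul_left_cancel₀ hne (by linear_combination r1 - r2)
          exact ⟨this, by rw [hC, hC', this]⟩
    obtain ⟨rfl, rfl⟩ := hA
    obtain ⟨s, hs⟩ : ∃ s, s = A * D - C * B := ⟨_, rfl⟩
    obtain ⟨s', hs'⟩ : ∃ s', s' = A * D' - C * B' := ⟨_, rfl⟩
    have hD : D = s * A := mul_left_cancel₀ ha (by rw [hs]; linear_combination (-D) * p1 + C * p2)
    have hD' : D' = s' * A := mul_left_cancel₀ ha (by rw [hs']; linear_combination (-D') * q1 + C * q2)
    have hB : a * B = -(s * d * C) := by rw [hs]; linear_combination (-B) * p1 + A * p2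
    have hB' : a * B' = -(s' * d * C) := by rw [hs']; linear_combination (-B') * q1 + A * q2
    have hs1 : s ^ 2 = 1 := mul_left_cancel₀ hd (by
      have hBs : a * B ^ 2 * a = s ^ 2 * d ^ 2 * C ^ 2 := by linear_combination (a * B - s * d * C) * hB
      apply mul_left_cancel₀ ha
      rw [hD] at p3
      linear_combination a * p3 - hBs - s ^ 2 * d * p1)
    have hs1' : s' ^ 2 = 1 := mul_left_cancel₀ hd (by
      have hBs : a * B' ^ 2 * a = s' ^ 2 * d ^ 2 * C ^ 2 := by linear_combination (a * B' - s' * d * C) * hB'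
      apply mul_left_cancel₀ ha
      rw [hD'] at q3
      linear_combination a * q3 - hBs - s' ^ 2 * d * q1)
    have hss : s = s' := by
      simp only [decide_eq_decide, ← hs, ← hs'] at e2
      rcases sq_eq_one_iff.1 hs1 with h | h <;> rcases sq_eq_one_iff.1 hs1' with h' | h'
      · rw [h, h']
      · have := e2.1 h; rw [h, this]
      · have := e2.2 h'; rw [h', this]
      · rw [h, h']
    subst hss
    have : B = B' := mul_left_cancel₀ ha (hB.trans hB'.symm)
    rw [this, hD, hD']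
  · simp [Finset.card_univ, Fintype.card_option, mul_comm]

/-- The orbit of a functional of rank at least two is large. -/
theorem orbit_two (h2 : (2 : F) ≠ 0) (hn : 2 ≤ n) (l : Sym F n →ₗ[F] F) (hl : ¬ IsLow l)
    (O : Finset (Sym F n →ₗ[F] F)) (hO : ∀ g : GL (Fin n) F, l.comp (cg g) ∈ O) :
    (Fintype.card F ^ n - 1) * (Fintype.card F ^ n - Fintype.card F) ≤ 2 * (Fintype.card F + 1) * O.card := by
  classical
  obtain ⟨e, f, he, hf, hef⟩ := exists_pair_of_not_low h2 l hl
  set i : Fin n := ⟨0, by omega⟩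
  set j : Fin n := ⟨1, by omega⟩
  have hij : i ≠ j := by simp [i, j]
  have hcomp : ∀ g h : GL (Fin n) F, ((l.comp (cg g)).comp (cg h)) ∈ O := fun g h => by
    have : (l.comp (cg g)).comp (cg h) = l.comp (cg (g * h)) := LinearMap.ext fun S => by
      simp only [LinearMap.comp_apply]
      refine congrArg l (Subtype.ext ?_)
      show g.1 * (h.1 * S.1 * h.1ᵀ) * g.1ᵀ = (g * h).1 * S.1 * (g * h).1ᵀ
      rw [Units.val_mul, transpose_mul]; simp only [Matrix.mul_assoc]
    rw [this]; exact hO _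
  obtain ⟨g, -, -, gi, gj⟩ := frame_of_pair hij l he hf hef
  set l0 := l.comp (cg g)
  set a := Bf l e e
  set d := Bf l f f
  have hi1 : (Pi.single i (1 : F) : Fin n → F) i = 1 := Pi.single_eq_same _ _
  have hj1 : (Pi.single j (1 : F) : Fin n → F) j = 1 := Pi.single_eq_same _ _
  by_cases hblock : ∀ z : Fin n → F, z i = 0 → z j = 0 → Bf l0 z z = 0
  · -- rank two
    have hform : ∀ x y, Bf l0 x y = a * x i * y i + d * x j * y j := by
      intro x y
      have hr : ∀ z : Fin n → F, ∃ r : Fin n → F, r i = 0 ∧ r j = 0 ∧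
          z = z i • Pi.single i 1 + z j • Pi.single j 1 + r :=
        fun z => ⟨z - z i • Pi.single i 1 - z j • Pi.single j 1, by simp [hij, hij.symm],
          by simp [hij, hij.symm], by abel⟩
      obtain ⟨r, ri, rj, hx⟩ := hr x
      obtain ⟨r', ri', rj', hy⟩ := hr y
      have hrr : Bf l0 r r' = 0 := by
        apply mul_left_cancel₀ h2
        have h1 := hblock (r + r') (by simp [ri, ri']) (by simp [rj, rj'])
        rw [Bf_addl, map_add, map_add, hblock r ri rj, hblock r' ri' rj', Bf_comm l0 r' r] at h1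
        linear_combination h1
      conv_lhs => rw [hx, hy]
      simp only [Bf_addl, Bf_smull, map_add, map_smul, Bf_comm l0 r (Pi.single i 1), Bf_comm l0 r (Pi.single j 1),
        gi, gj, hi1, hj1, hrr, ri, rj, ri', rj', smul_eq_mul]
      rw [Pi.single_eq_of_ne hij, Pi.single_eq_of_ne hij.symm]
      ring
    let T : Finset ((Fin n → F) × (Fin n → F)) :=
      Finset.univ.filter fun p => p.1 ≠ 0 ∧ p.2 ∉ Submodule.span F {p.1}
    have hdual : ∀ p ∈ T, ∃ u v : Fin n → F,
        p.1 ⬝ᵥ u = 1 ∧ p.2 ⬝ᵥ u = 0 ∧ p.1 ⬝ᵥ v = 0 ∧ p.2 ⬝ᵥ v = 1 := by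
      intro p hp
      obtain ⟨-, h1, h2'⟩ := Finset.mem_filter.1 hp
      obtain ⟨k, hk⟩ := Function.ne_iff.1 h1
      obtain ⟨m, hm⟩ : ∃ m, p.1 k * p.2 m - p.1 m * p.2 k ≠ 0 := by
        by_contra h
        push Not at h
        refine h2' (Submodule.mem_span_singleton.2 ⟨p.2 k / p.1 k, funext fun m => ?_⟩)
        have hk' : p.1 k ≠ 0 := hk
        rw [Pi.smul_apply, smul_eq_mul, div_mul_eq_mul_div, div_eq_iff hk']
        linear_combination -(h m)
      set D := p.1 k * p.2 m - p.1 m * p.2 k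
      refine ⟨D⁻¹ • (Pi.single k (p.2 m) - Pi.single m (p.2 k)),
        D⁻¹ • (Pi.single m (p.1 k) - Pi.single k (p.1 m)), ?_, ?_, ?_, ?_⟩ <;>
      · simp only [dotProduct_smul, dotProduct_sub, dotProduct_single, smul_eq_mul]
        field_simp
        try ring
    let Θ : (Fin n → F) × (Fin n → F) → (Sym F n →ₗ[F] F) := fun p =>
      (a / 2) • rk1 1 p.1 + (d / 2) • rk1 1 p.2
    have hΘ : ∀ p x y, Bf (Θ p) x y = a * ((p.1 ⬝ᵥ x) * (p.1 ⬝ᵥ y)) + d * ((p.2 ⬝ᵥ x) * (p.2 ⬝ᵥ y)) := by
      intro p x y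
      show (a / 2) * Bf (rk1 1 p.1) x y + (d / 2) * Bf (rk1 1 p.2) x y = _
      rw [Bf_rk1, Bf_rk1]; field_simp
    have hΘO : ∀ p ∈ T, Θ p ∈ O := by
      intro p hp
      obtain ⟨u, v, e1, e2, e3, e4⟩ := hdual p hp
      let Φ : (Fin n → F) →ₗ[F] F × F :=
        { toFun := fun x => (p.1 ⬝ᵥ x, p.2 ⬝ᵥ x)
          map_add' := fun x y => by simp [dotProduct_add]
          map_smul' := fun r x => by simp [dotProduct_smul] }
      obtain ⟨k, -, -, hk⟩ := exists_frame hij Φ (e := u) (f := v) (Prod.ext e1 e2) (Prod.ext e3 e4)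
      have hk' : ∀ x, ((k⁻¹ : GL (Fin n) F).1 *ᵥ x) i = p.1 ⬝ᵥ x ∧ ((k⁻¹ : GL (Fin n) F).1 *ᵥ x) j = p.2 ⬝ᵥ x := by
        intro x
        have h := hk ((k⁻¹ : GL (Fin n) F).1 *ᵥ x)
        rw [mulVec_mulVec, ← Units.val_mul, mul_inv_cancel, Units.val_one, one_mulVec] at h
        exact ⟨(congrArg Prod.fst h).symm, (congrArg Prod.snd h).symm⟩
      have : Θ p = l0.comp (cg k⁻¹) := func_ext h2 fun r s => by
        rw [hΘ, Bf_cg, hform, (hk' _).1, (hk' _).1, (hk' _).2, (hk' _).2]; ring
      rw [this]; exact hcomp _ _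
    have hfib : ∀ m ∈ T.image Θ, (T.filter fun p => Θ p = m).card ≤ 2 * (Fintype.card F + 1) := by
      intro m hm
      obtain ⟨p, hp, rfl⟩ := Finset.mem_image.1 hm
      obtain ⟨u, v, e1, e2, e3, e4⟩ := hdual p hp
      refine le_trans (Finset.card_le_card_of_injOn (fun r => (r.1 ⬝ᵥ u, r.2 ⬝ᵥ u, r.1 ⬝ᵥ v, r.2 ⬝ᵥ v)) ?_ ?_)
        (fibre_card h2 he hf)
      · intro r hr
        obtain ⟨-, hr⟩ := Finset.mem_filter.1 hr
        have h := fun x y => (hΘ r x y).symm.trans ((by rw [hr]) : _ = Bf (Θ p) x y) |>.trans (hΘ p x y)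
        have huu := h u u
        have huv := h u v
        have hvv := h v v
        rw [e1, e2] at huu
        rw [e1, e2, e3, e4] at huv
        rw [e3, e4] at hvv
        simp only [Finset.coe_filter, Finset.mem_univ, true_and, Set.mem_setOf_eq]
        exact ⟨by linear_combination huu, by linear_combination huv, by linear_combination hvv⟩
      · intro r hr r' hr' hev
        obtain ⟨-, hr⟩ := Finset.mem_filter.1 hr
        obtain ⟨-, hr'⟩ := Finset.mem_filter.1 hr'
        simp only [Prod.mk.injEq] at hev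
        obtain ⟨v1, v2, v3, v4⟩ := hev
        have h := fun x y => (hΘ r x y).symm.trans ((by rw [hr]) : _ = Bf (Θ p) x y) |>.trans (hΘ p x y)
        have h' := fun x y => (hΘ r' x y).symm.trans ((by rw [hr']) : _ = Bf (Θ p) x y) |>.trans (hΘ p x y)
        have hdet : r.1 ⬝ᵥ u * r.2 ⬝ᵥ v - r.1 ⬝ᵥ v * r.2 ⬝ᵥ u ≠ 0 := by
          intro h0
          have huu := h u u
          have huv := h u v
          have hvv := h v v
          rw [e1, e2] at huu
          rw [e1, e2, e3, e4] at huv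
          rw [e3, e4] at hvv
          refine mul_ne_zero he hf ?_
          linear_combination (-d) * huu - (a * (r.1 ⬝ᵥ u) ^ 2 + d * (r.2 ⬝ᵥ u) ^ 2) * hvv +
            (a * (r.1 ⬝ᵥ u) * (r.1 ⬝ᵥ v) + d * (r.2 ⬝ᵥ u) * (r.2 ⬝ᵥ v)) * huv +
            a * d * (r.1 ⬝ᵥ u * r.2 ⬝ᵥ v - r.1 ⬝ᵥ v * r.2 ⬝ᵥ u) * h0
        have key : ∀ k, r.1 k = r'.1 k ∧ r.2 k = r'.2 k := by
          intro k
          have hu := (h u (Pi.single k 1)).trans (h' u (Pi.single k 1)).symm
          have hv := (h v (Pi.single k 1)).trans (h' v (Pi.single k 1)).symm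
          simp only [dotProduct_single, mul_one, ← v1, ← v2, ← v3, ← v4] at hu hv
          constructor
          · apply mul_left_cancel₀ (mul_ne_zero he hdet)
            linear_combination r.2 ⬝ᵥ v * hu - r.2 ⬝ᵥ u * hv
          · apply mul_left_cancel₀ (mul_ne_zero hf hdet)
            linear_combination r.1 ⬝ᵥ u * hv - r.1 ⬝ᵥ v * hu
        exact Prod.ext (funext fun k => (key k).1) (funext fun k => (key k).2)
    have hT : (Fintype.card F ^ n - 1) * (Fintype.card F ^ n - Fintype.card F) ≤ T.card := by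
      have e : T.card = ∑ x ∈ (Finset.univ.filter fun x : Fin n → F => x ≠ 0),
          (Finset.univ.filter fun y : Fin n → F => y ∉ Submodule.span F {x}).card := by
        rw [← Finset.card_sigma]
        refine Finset.card_bij (fun p _ => ⟨p.1, p.2⟩) ?_ ?_ ?_
        · intro p hp; simpa [T] using hp
        · intro p _ r _ h; cases p; cases r; simp_all
        · rintro ⟨x, y⟩ h; exact ⟨(x, y), by simpa [T] using h, rfl⟩
      rw [e, Finset.sum_congr rfl (g := fun _ => Fintype.card F ^ n - Fintype.card F), Finset.sum_const,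
        smul_eq_mul, Finset.filter_ne', Finset.card_erase_of_mem (Finset.mem_univ _), Finset.card_univ,
        Fintype.card_fun, Fintype.card_fin]
      intro x hx
      rw [Finset.filter_not, Finset.card_sdiff_of_subset (Finset.subset_univ _), Finset.card_univ, Fintype.card_fun,
        Fintype.card_fin, ← Fintype.card_subtype]
      congr 1
      rw [← Nat.card_eq_fintype_card, ← Nat.card_eq_fintype_card]
      exact (Nat.card_congr (LinearEquiv.toSpanNonzeroSingleton F (Fin n → F) x
        (Finset.mem_filter.1 hx).2).toEquiv).symm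
    calc _ ≤ T.card := hT
      _ ≤ 2 * (Fintype.card F + 1) * (T.image Θ).card := Finset.card_le_mul_card_image _ _ hfib
      _ ≤ _ := Nat.mul_le_mul_left _ (Finset.card_le_card fun m hm => by
        obtain ⟨p, hp, rfl⟩ := Finset.mem_image.1 hm
        exact hΘO p hp)
  · -- rank at least three
    push Not at hblock
    obtain ⟨z, zi, zj, hz⟩ := hblock
    have bii : Bf l0 (Pi.single i 1) (Pi.single i 1) = a := by rw [gi, hi1, mul_one]
    have bjj : Bf l0 (Pi.single j 1) (Pi.single j 1) = d := by rw [gj, hj1, mul_one]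
    have bij : Bf l0 (Pi.single i 1) (Pi.single j 1) = 0 := by rw [gi, Pi.single_eq_of_ne hij, mul_zero]
    have biz : Bf l0 (Pi.single i 1) z = 0 := by rw [gi, zi, mul_zero]
    have bjz : Bf l0 (Pi.single j 1) z = 0 := by rw [gj, zj, mul_zero]
    have hreal : ∀ a' d' : F, a' ≠ 0 → d' ≠ 0 → ∃ k : GL (Fin n) F, l0.comp (cg k) ∈ O ∧
        (∀ x, Bf (l0.comp (cg k)) (Pi.single i 1) x = a' * x i) ∧
        ∀ x, Bf (l0.comp (cg k)) (Pi.single j 1) x = d' * x j := by
      intro a' d' ha' hd'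
      obtain ⟨x, y, hxy⟩ := exists_binary h2 he hf a'
      set E := x • (Pi.single i 1 : Fin n → F) + y • Pi.single j 1
      set N := (-d * y) • (Pi.single i 1 : Fin n → F) + (a * x) • Pi.single j 1
      have hNN : a * d * a' ≠ 0 := mul_ne_zero (mul_ne_zero he hf) ha'
      obtain ⟨x', y', hxy'⟩ := exists_binary h2 hNN hz d'
      have hE : Bf l0 E E = a' := by
        simp only [E, Bf_addl, Bf_smull, map_add, map_smul, bii, bjj, bij,
          Bf_comm l0 (Pi.single j 1) (Pi.single i 1), smul_eq_mul]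
        linear_combination hxy
      have hD : Bf l0 (x' • N + y' • z) (x' • N + y' • z) = d' := by
        simp only [N, Bf_addl, Bf_smull, map_add, map_smul, bii, bjj, bij, biz, bjz, Bf_comm l0 z (Pi.single i 1),
          Bf_comm l0 z (Pi.single j 1), Bf_comm l0 (Pi.single j 1) (Pi.single i 1), smul_eq_mul]
        linear_combination hxy' + a * d * x' ^ 2 * hxy
      have hED : Bf l0 E (x' • N + y' • z) = 0 := by
        simp only [E, N, Bf_addl, Bf_smull, map_add, map_smul, bii, bjj, bij, biz, bjz,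
          Bf_comm l0 (Pi.single j 1) (Pi.single i 1), smul_eq_mul]
        ring
      obtain ⟨k, -, -, k1, k2⟩ := frame_of_pair hij l0 (hE ▸ ha') (hD ▸ hd') hED
      exact ⟨k, hcomp _ _, fun x => by rw [k1, hE], fun x => by rw [k2, hD]⟩
    choose kk hkO hki hkj using hreal
    let R : Finset (Fin n → F) := Fintype.piFinset fun k => if k = i then {0} else Finset.univ
    let R' : Finset (Fin n → F) := Fintype.piFinset fun k => if k = i ∨ k = j then {0} else Finset.univ
    let P := ((Finset.univ.erase (0 : F)) ×ˢ (Finset.univ.erase (0 : F))) ×ˢ (R ×ˢ R')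
    have hshear : ∀ r ∈ R, ∀ r' ∈ R', ∃ k : GL (Fin n) F, ∀ x,
        k.1 *ᵥ x = x + (r ⬝ᵥ x) • Pi.single i 1 + (r' ⬝ᵥ x) • Pi.single j 1 := by
      intro r hr r' hr'
      have ri : r i = 0 := by simpa using Fintype.mem_piFinset.1 hr i
      have ri' : r' i = 0 := by simpa using Fintype.mem_piFinset.1 hr' i
      have rj' : r' j = 0 := by simpa using Fintype.mem_piFinset.1 hr' j
      let M : Matrix (Fin n) (Fin n) F := 1 + vecMulVec (Pi.single i 1) r + vecMulVec (Pi.single j 1) r'
      have hM : ∀ x, M *ᵥ x = x + (r ⬝ᵥ x) • Pi.single i 1 + (r' ⬝ᵥ x) • Pi.single j 1 := fun x => by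
        simp [M, add_mulVec, vecMulVec_mulVec]
      have hinj : Function.Injective M.mulVec := by
        intro x y h
        rw [hM, hM] at h
        have h0 : r' ⬝ᵥ x = r' ⬝ᵥ y := by
          have := congrArg (fun v => r' ⬝ᵥ v) h
          simpa [dotProduct_add, dotProduct_smul, ri', rj'] using this
        have h1 : r ⬝ᵥ x = r ⬝ᵥ y := by
          have := congrArg (fun v => r ⬝ᵥ v) h
          simpa [dotProduct_add, dotProduct_smul, ri, h0] using this
        rw [h0, h1] at h
        exact add_right_cancel (add_right_cancel h)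
      exact ⟨(Matrix.mulVec_injective_iff_isUnit.1 hinj).unit, fun x => by rw [IsUnit.unit_spec]; exact hM x⟩
    choose sh hsh using hshear
    let Ω : P → (Sym F n →ₗ[F] F) := fun p =>
      (l0.comp (cg (kk p.1.1.1 p.1.1.2 (Finset.ne_of_mem_erase (Finset.mem_product.1 (Finset.mem_product.1 p.2).1).1)
        (Finset.ne_of_mem_erase (Finset.mem_product.1 (Finset.mem_product.1 p.2).1).2)))).comp
        (cg (sh p.1.2.1 (Finset.mem_product.1 (Finset.mem_product.1 p.2).2).1 p.1.2.2
          (Finset.mem_product.1 (Finset.mem_product.1 p.2).2).2))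
    have hΩO : ∀ p, Ω p ∈ O := fun p => by
      show (_ : Sym F n →ₗ[F] F).comp _ ∈ O
      have : ∀ k h : GL (Fin n) F, (l0.comp (cg k)).comp (cg h) = l0.comp (cg (k * h)) := fun k h =>
        LinearMap.ext fun S => by
          simp only [LinearMap.comp_apply]
          refine congrArg l0 (Subtype.ext ?_)
          show k.1 * (h.1 * S.1 * h.1ᵀ) * k.1ᵀ = (k * h).1 * S.1 * (k * h).1ᵀ
          rw [Units.val_mul, transpose_mul]; simp only [Matrix.mul_assoc]
      rw [this]; exact hcomp _ _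
    have hrows : ∀ p : P, (∀ x, Bf (Ω p) (Pi.single i 1) x = p.1.1.1 * (x i + p.1.2.1 ⬝ᵥ x)) ∧
        ∀ x, Bf (Ω p) (Pi.single j 1) x =
          p.1.2.1 j * p.1.1.1 * (x i + p.1.2.1 ⬝ᵥ x) + p.1.1.2 * (x j + p.1.2.2 ⬝ᵥ x) := by
      rintro ⟨⟨⟨a', d'⟩, r, r'⟩, hp⟩
      obtain ⟨hp1, hp2⟩ := Finset.mem_product.1 hp
      obtain ⟨hr, hr'⟩ := Finset.mem_product.1 hp2
      have ri : r i = 0 := by simpa using Fintype.mem_piFinset.1 hr i
      have ri' : r' i = 0 := by simpa using Fintype.mem_piFinset.1 hr' i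
      have rj' : r' j = 0 := by simpa using Fintype.mem_piFinset.1 hr' j
      refine ⟨fun x => ?_, fun x => ?_⟩
      · rw [Bf_cg, hsh, hsh]
        simp only [dotProduct_single, mul_one, ri, ri', zero_smul, add_zero, hki, Pi.add_apply, Pi.smul_apply,
          hi1, Pi.single_eq_of_ne hij, smul_eq_mul, mul_zero]
      · rw [Bf_cg, hsh, hsh]
        simp only [dotProduct_single, mul_one, rj', zero_smul, add_zero, Bf_addl, Bf_smull, hki, hkj,
          Pi.add_apply, Pi.smul_apply, hi1, hj1, Pi.single_eq_of_ne hij, Pi.single_eq_of_ne hij.symm, smul_eq_mul,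
          mul_zero]
        ring
    have hΩinj : Function.Injective Ω := by
      intro p p' h
      obtain ⟨A1, A2⟩ := hrows p
      obtain ⟨B1, B2⟩ := hrows p'
      rw [h] at A1 A2
      have e1 := fun x => (A1 x).symm.trans (B1 x)
      have e2 := fun x => (A2 x).symm.trans (B2 x)
      obtain ⟨⟨⟨a', d'⟩, r, r'⟩, hp⟩ := p
      obtain ⟨⟨⟨a'', d''⟩, s, s'⟩, hp'⟩ := p'
      obtain ⟨hp1, hp2⟩ := Finset.mem_product.1 hp
      obtain ⟨hr, hr'⟩ := Finset.mem_product.1 hp2
      obtain ⟨hs, hs'⟩ := Finset.mem_product.1 (Finset.mem_product.1 hp').2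
      have ri : r i = 0 := by simpa using Fintype.mem_piFinset.1 hr i
      have si : s i = 0 := by simpa using Fintype.mem_piFinset.1 hs i
      have ri' : r' i = 0 := by simpa using Fintype.mem_piFinset.1 hr' i
      have si' : s' i = 0 := by simpa using Fintype.mem_piFinset.1 hs' i
      have rj' : r' j = 0 := by simpa using Fintype.mem_piFinset.1 hr' j
      have sj' : s' j = 0 := by simpa using Fintype.mem_piFinset.1 hs' j
      have ha : a' = a'' := by simpa [ri, si] using e1 (Pi.single i 1)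
      subst ha
      have ha' : a' ≠ 0 := Finset.ne_of_mem_erase (Finset.mem_product.1 hp1).1
      have hd' : d' ≠ 0 := Finset.ne_of_mem_erase (Finset.mem_product.1 hp1).2
      have hr_eq : r = s := funext fun k => by
        have := mul_left_cancel₀ ha' (e1 (Pi.single k 1))
        simpa using this
      subst hr_eq
      have e3 : ∀ x : Fin n → F, d' * (x j + r' ⬝ᵥ x) = d'' * (x j + s' ⬝ᵥ x) := fun x => by
        have := e2 x; linear_combination this
      have hd : d' = d'' := by simpa [rj', sj'] using e3 (Pi.single j 1)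
      subst hd
      have hr'_eq : r' = s' := funext fun k => by
        have := mul_left_cancel₀ hd' (e3 (Pi.single k 1))
        simpa using this
      subst hr'_eq
      rfl
    have hcard : P.card ≤ O.card := by
      rw [← Fintype.card_coe P]
      exact Finset.card_le_card_of_injOn Ω (fun p _ => hΩO p) hΩinj.injOn
    have hq : 3 ≤ Fintype.card F := by
      have := Fintype.one_lt_card (α := F)
      by_contra hlt
      have h' : Fintype.card F = 2 := by omega
      refine h2 ?_
      have := FiniteField.cast_card_eq_zero F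
      rw [h'] at this
      exact_mod_cast this
    have hR : R.card = Fintype.card F ^ (n - 1) := by
      simp only [R, Fintype.card_piFinset, apply_ite Finset.card, Finset.card_singleton, Finset.card_univ]
      rw [Finset.prod_ite, Finset.prod_const_one, Finset.prod_const, one_mul, Finset.filter_ne',
        Finset.card_erase_of_mem (Finset.mem_univ _), Finset.card_univ, Fintype.card_fin]
    have hR' : R'.card = Fintype.card F ^ (n - 2) := by
      simp only [R', Fintype.card_piFinset, apply_ite Finset.card, Finset.card_singleton, Finset.card_univ]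
      rw [Finset.prod_ite, Finset.prod_const_one, Finset.prod_const, one_mul]
      congr 1
      have : (Finset.univ.filter fun k => ¬(k = i ∨ k = j)) = (Finset.univ.erase i).erase j := by
        ext k; simp; tauto
      rw [this, Finset.card_erase_of_mem (by simp [hij.symm]), Finset.card_erase_of_mem (Finset.mem_univ _),
        Finset.card_univ, Fintype.card_fin]
      omega
    rw [Finset.card_product, Finset.card_product, Finset.card_product, hR, hR',
      Finset.card_erase_of_mem (Finset.mem_univ _), Finset.card_univ] at hcard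
    obtain ⟨m, rfl⟩ : ∃ m, n = m + 2 := ⟨n - 2, by omega⟩
    refine le_trans ?_ (Nat.mul_le_mul_left _ hcard)
    refine le_trans (Nat.mul_le_mul (Nat.sub_le _ _) (Nat.sub_le _ _)) ?_
    obtain ⟨w, hw⟩ : ∃ w, Fintype.card F = w + 3 := ⟨Fintype.card F - 3, by omega⟩
    rw [show m + 2 - 1 = m + 1 by omega, show m + 2 - 2 = m by omega, hw, show w + 3 - 1 = w + 2 by omega,
      show (w + 3) ^ (m + 2) * (w + 3) ^ (m + 2) = (w + 3) ^ 3 * ((w + 3) ^ (m + 1) * (w + 3) ^ m) by ring,
      show 2 * (w + 3 + 1) * ((w + 2) * (w + 2) * ((w + 3) ^ (m + 1) * (w + 3) ^ m)) =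
        2 * (w + 3 + 1) * ((w + 2) * (w + 2)) * ((w + 3) ^ (m + 1) * (w + 3) ^ m) by ring]
    exact Nat.mul_le_mul_right _ (by nlinarith)

end CfsgLib.SympWeil
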