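import Mathlib
import Cfsg.Agent.Lib.SympWeil.LowerBound

/-! Elements of the symplectic group used in the classification of its Weil characters. -/

set_option autoImplicit false
set_option linter.unusedSectionVars false

namespace CfsgLib.SympWeil

open Matrix

variable {F : Type*} [Field F] [DecidableEq F] {n : ℕ}

theorem sym_apply (S : Sym F n) (i j : Fin n) : S.1 j i = S.1 i j := congrFun (congrFun S.2 i) j

/-- A blockwise diagonal symplectic element. -/
def dg (a b c d : Fin n → F) (h : ∀ k, a k * d k - b k * c k = 1) : Matrix.symplecticGroup (Fin n) F :=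
  ⟨fromBlocks (diagonal a) (diagonal b) (diagonal c) (diagonal d), by
    rw [SymplecticGroup.mem_iff, Matrix.J, fromBlocks_transpose, fromBlocks_multiply, fromBlocks_multiply]
    simp only [diagonal_transpose, mul_zero, Matrix.mul_one, zero_add, add_zero, mul_neg, neg_mul,
      diagonal_mul_diagonal, diagonal_neg, diagonal_add]
    rw [← diagonal_one, ← diagonal_zero, diagonal_neg]
    congr 1 <;> refine congrArg diagonal (funext fun k => ?_) <;>
      first
        | linear_combination h k
        | linear_combination -(h k)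
        | ring⟩

theorem dg_apply (a b c d : Fin n → F) (h : ∀ k, a k * d k - b k * c k = 1) (x : V2 F n) :
    (dg a b c d h).1 *ᵥ x = Sum.elim (fun k => a k * fs x k + b k * sn x k) (fun k => c k * fs x k + d k * sn x k) := by
  show fromBlocks (diagonal a) (diagonal b) (diagonal c) (diagonal d) *ᵥ x = _
  rw [fromBlocks_mulVec]
  refine congrArg₂ Sum.elim (funext fun k => ?_) (funext fun k => ?_) <;>
    · rw [Pi.add_apply, mulVec_diagonal, mulVec_diagonal]; rfl

theorem sieg_apply (S : Sym F n) (x : V2 F n) : (sieg S).1 *ᵥ x = Sum.elim (fs x + S.1 *ᵥ sn x) (sn x) := by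
  show fromBlocks 1 S.1 0 1 *ᵥ x = _
  rw [fromBlocks_mulVec]
  simp [fs, sn, Function.comp_def]

theorem levi_apply (g : GL (Fin n) F) (x : V2 F n) :
    (levi g).1 *ᵥ x = Sum.elim (g.1 *ᵥ fs x) ((g⁻¹).1ᵀ *ᵥ sn x) := by
  show fromBlocks g.1 0 0 (g⁻¹).1ᵀ *ᵥ x = _
  rw [fromBlocks_mulVec]
  simp [fs, sn, Function.comp_def]

theorem levi_mul (g h : GL (Fin n) F) : levi (g * h) = levi g * levi h := by
  refine Subtype.ext ?_
  show fromBlocks (g * h).1 0 0 ((g * h)⁻¹).1ᵀ =
    fromBlocks g.1 0 0 (g⁻¹).1ᵀ * fromBlocks h.1 0 0 (h⁻¹).1ᵀ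
  rw [fromBlocks_multiply, _root_.mul_inv_rev, Units.val_mul, Units.val_mul, transpose_mul]
  simp

theorem levi_one : levi (1 : GL (Fin n) F) = 1 := by
  refine Subtype.ext ?_
  show fromBlocks (1 : GL (Fin n) F).1 0 0 ((1 : GL (Fin n) F)⁻¹).1ᵀ = 1
  simp [fromBlocks_one]

theorem ext_act {g h : Matrix.symplecticGroup (Fin n) F} (e : ∀ x, g.1 *ᵥ x = h.1 *ᵥ x) : g = h :=
  Subtype.ext (Matrix.ext_of_mulVec_single fun _ => e _)

/-- The partial Fourier element at a coordinate. -/
def sw (i : Fin n) : Matrix.symplecticGroup (Fin n) F :=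
  dg (fun k => if k = i then 0 else 1) (fun k => if k = i then 1 else 0)
    (fun k => if k = i then -1 else 0) (fun k => if k = i then 0 else 1) fun k => by
      split_ifs <;> ring

/-- An elementary symmetric matrix on the diagonal. -/
def dS (i : Fin n) (α : F) : Sym F n :=
  ⟨diagonal (fun k => if k = i then α else 0), diagonal_transpose _⟩

/-- A symmetric pair. -/
def cS (i j : Fin n) (μ : F) : Sym F n :=
  ⟨Matrix.single i j μ + Matrix.single j i μ, by
    show (Matrix.single i j μ + Matrix.single j i μ)ᵀ = _
    rw [transpose_add, transpose_single, transpose_single, add_comm]⟩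

/-- A diagonal element of the Levi group. -/
def dd (i : Fin n) (r : Fˣ) : GL (Fin n) F where
  val := diagonal (fun k => if k = i then (r : F) else 1)
  inv := diagonal (fun k => if k = i then ((r⁻¹ : Fˣ) : F) else 1)
  val_inv := by
    rw [diagonal_mul_diagonal, ← diagonal_one]; congr 1; funext k; split_ifs <;> simp
  inv_val := by
    rw [diagonal_mul_diagonal, ← diagonal_one]; congr 1; funext k; split_ifs <;> simp

/-- A transvection of the Levi group. -/
def tr (i j : Fin n) (hij : i ≠ j) (μ : F) : GL (Fin n) F where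
  val := Matrix.transvection i j μ
  inv := Matrix.transvection i j (-μ)
  val_inv := by rw [transvection_mul_transvection_same _ _ hij, add_neg_cancel, transvection_zero]
  inv_val := by rw [transvection_mul_transvection_same _ _ hij, neg_add_cancel, transvection_zero]

theorem det_dd (i : Fin n) (r : Fˣ) : (dd i r).1.det = r := by
  show (diagonal _).det = _
  rw [det_diagonal, Finset.prod_ite_eq' Finset.univ i, if_pos (Finset.mem_univ _)]

theorem det_tr (i j : Fin n) (hij : i ≠ j) (μ : F) : (tr i j hij μ).1.det = 1 :=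
  det_transvection_of_ne i j hij μ

theorem sieg_dS (i : Fin n) (α : F) :
    sieg (dS i α) = dg 1 (fun k => if k = i then α else 0) 0 1 (fun k => by simp) := by
  refine ext_act fun x => ?_
  rw [sieg_apply, dg_apply]
  refine congrArg₂ Sum.elim (funext fun k => ?_) (funext fun k => ?_)
  · rw [Pi.add_apply, show (dS i α).1 = diagonal (fun k => if k = i then α else 0) from rfl, mulVec_diagonal]
    simp
  · simp

theorem levi_dd (i : Fin n) (r : Fˣ) :
    levi (dd i r) = dg (fun k => if k = i then (r : F) else 1) 0 0 (fun k => if k = i then ((r⁻¹ : Fˣ) : F) else 1)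
      (fun k => by split_ifs <;> simp) := by
  refine ext_act fun x => ?_
  rw [levi_apply, dg_apply]
  refine congrArg₂ Sum.elim (funext fun k => ?_) (funext fun k => ?_)
  · rw [show (dd i r).1 = diagonal (fun k => if k = i then (r : F) else 1) from rfl, mulVec_diagonal]
    simp
  · rw [show ((dd i r)⁻¹).1 = diagonal (fun k => if k = i then ((r⁻¹ : Fˣ) : F) else 1) from rfl,
      diagonal_transpose, mulVec_diagonal]
    simp

theorem sw_sq (i : Fin n) : sw i * sw i = levi (dd (F := F) i (-1)) := by
  rw [levi_dd]
  refine ext_act fun x => ?_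
  rw [SympGen.mul_apply, sw, dg_apply, dg_apply, dg_apply]
  refine congrArg₂ Sum.elim (funext fun k => ?_) (funext fun k => ?_) <;>
    · simp only [fs, sn, Sum.elim_inl, Sum.elim_inr, Pi.zero_apply]
      split_ifs <;> simp

theorem sw_cube (i : Fin n) (a : Fˣ) :
    sw i * sieg (dS i (a : F)) * (sw i * sieg (dS i ((a⁻¹ : Fˣ) : F))) * (sw i * sieg (dS i (a : F))) =
      levi (dd i a⁻¹) := by
  rw [levi_dd, sieg_dS, sieg_dS]
  refine ext_act fun x => ?_
  simp only [SympGen.mul_apply, sw, dg_apply]
  refine congrArg₂ Sum.elim (funext fun k => ?_) (funext fun k => ?_) <;>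
    · simp only [fs, sn, Sum.elim_inl, Sum.elim_inr, Pi.zero_apply, Pi.one_apply]
      by_cases hk : k = i
      · simp only [hk, if_true, Units.val_inv_eq_inv_val, inv_inv]
        have := a.ne_zero
        field_simp
        ring
      · simp only [hk, if_false]
        ring

theorem sw_comm (i j : Fin n) (hij : i ≠ j) : sw (F := F) i * sw j = sw j * sw i := by
  refine ext_act fun x => ?_
  simp only [SympGen.mul_apply, sw, dg_apply]
  refine congrArg₂ Sum.elim (funext fun k => ?_) (funext fun k => ?_) <;>
    · simp only [fs, sn, Sum.elim_inl, Sum.elim_inr]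
      by_cases hk : k = i
      · subst hk; simp [hij]
      · simp [hk]

theorem sw_levi_dd (i j : Fin n) (hij : i ≠ j) (r : Fˣ) : sw i * levi (dd j r) = levi (dd j r) * sw i := by
  rw [levi_dd]
  refine ext_act fun x => ?_
  simp only [SympGen.mul_apply, sw, dg_apply]
  refine congrArg₂ Sum.elim (funext fun k => ?_) (funext fun k => ?_) <;>
    · simp only [fs, sn, Sum.elim_inl, Sum.elim_inr, Pi.zero_apply]
      by_cases hk : k = i
      · subst hk; simp [hij]
      · simp [hk]

theorem sw_sieg_comm (i : Fin n) (S : Sym F n) (hS : ∀ m, S.1 i m = 0) : sw i * sieg S = sieg S * sw i := by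
  refine ext_act fun x => ?_
  simp only [SympGen.mul_apply, sw, dg_apply, sieg_apply]
  have hc : ∀ k, S.1 k i = 0 := fun k => (sym_apply S i k).trans (hS k)
  refine congrArg₂ Sum.elim (funext fun k => ?_) (funext fun k => ?_) <;>
    simp only [fs, sn, Sum.elim_inl, Sum.elim_inr, Pi.add_apply, mulVec, dotProduct]
  · have e : ∑ l, S.1 k l * ((if l = i then (-1 : F) else 0) * x (Sum.inl l) +
        (if l = i then 0 else 1) * x (Sum.inr l)) = ∑ l, S.1 k l * x (Sum.inr l) := by
      refine Finset.sum_congr rfl fun l _ => ?_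
      by_cases hl : l = i
      · subst hl; simp [hc]
      · simp [hl]
    rw [e]
    by_cases hk : k = i
    · subst hk; simp [hS]
    · simp [hk]
  · by_cases hk : k = i
    · subst hk; simp [mulVec, dotProduct, hS]
    · simp [hk]

theorem sw_cS (i j : Fin n) (hij : i ≠ j) (μ : F) :
    sw i * sieg (cS i j μ) = levi (tr j i hij.symm μ) * sw i := by
  refine ext_act fun x => ?_
  simp only [SympGen.mul_apply, sw, dg_apply, sieg_apply, levi_apply]
  refine congrArg₂ Sum.elim (funext fun k => ?_) (funext fun k => ?_) <;>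
    · simp only [fs, sn, Sum.elim_inl, Sum.elim_inr, Pi.add_apply, tr, cS, Matrix.add_mulVec, single_mulVec,
        Units.inv_mk, transvection, transpose_add, transpose_one, transpose_single, one_mulVec]
      by_cases hk : k = i
      · subst hk; simp [hij, hij.symm]
        try ring
      · by_cases hj : k = j
        · subst hj; simp [hij, hij.symm]
          try ring
        · simp [hk, hj]

theorem levi_dd_tr (i j : Fin n) (hij : i ≠ j) (r : Fˣ) (μ : F) :
    levi (dd i r) * levi (tr i j hij μ) = levi (tr i j hij ((r : F) * μ)) * levi (dd i r) := by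
  rw [← levi_mul, ← levi_mul]
  refine congrArg levi (Units.ext ?_)
  show diagonal _ * transvection i j μ = transvection i j ((r : F) * μ) * diagonal _
  ext a b
  rw [diagonal_mul, mul_diagonal]
  by_cases ha : a = i <;> by_cases hb : b = j <;> by_cases hab : a = b <;>
    simp [transvection, Matrix.single_apply, Matrix.one_apply, ha, hb, hab, hij, hij.symm, Ne.symm] <;>
    simp_all [eq_comm]

theorem cS_conj (i j : Fin n) (hij : i ≠ j) (μ : F) :
    levi (dd i (-1)) * sieg (cS i j μ) = sieg (cS i j (-μ)) * levi (dd (F := F) i (-1)) := by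
  rw [levi_sieg]
  congr 2
  refine Subtype.ext ?_
  show diagonal _ * (Matrix.single i j μ + Matrix.single j i μ) * (diagonal _)ᵀ =
    Matrix.single i j (-μ) + Matrix.single j i (-μ)
  rw [diagonal_transpose]
  ext a b
  rw [mul_diagonal, diagonal_mul]
  by_cases ha : a = i <;> by_cases hb : b = i <;> simp [Matrix.single_apply, ha, hb, hij, hij.symm, Ne.symm] <;> split_ifs <;> simp_all

theorem sw_tr (i j : Fin n) (hij : i ≠ j) (μ : F) :
    sw i * levi (tr j i hij.symm μ) = sieg (cS i j (-μ)) * sw i := by
  apply mul_right_cancel (b := sw i)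
  rw [mul_assoc, ← sw_cS i j hij μ, ← mul_assoc, sw_sq, cS_conj i j hij μ, mul_assoc, sw_sq]

end CfsgLib.SympWeil
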