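import Mathlib
import Cfsg.Agent.Lib.SympWeil.Class.Elements
import Cfsg.Agent.Lib.SympWeil.Class.Forms

/-! The spectrum of the Siegel radical in a representation; quadratic Gauss sums. -/

set_option autoImplicit false
set_option linter.unusedSectionVars false

namespace CfsgLib.SympWeil

open Matrix Module

variable {F : Type*} [Field F] [Fintype F] [DecidableEq F] {n : ℕ}

noncomputable instance symFintype : Fintype (Sym F n) := Fintype.ofFinite _

noncomputable instance symDualFintype : Fintype (Sym F n →ₗ[F] F) :=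
  haveI : Finite (Sym F n →ₗ[F] F) := Finite.of_injective _ DFunLike.coe_injective
  Fintype.ofFinite _

variable {V : Type*} [AddCommGroup V] [Module ℂ V]
variable (ρ : Representation ℂ (Matrix.symplecticGroup (Fin n) F) V)

/-- The additive character of a functional. -/
noncomputable def lamC (l : Sym F n →ₗ[F] F) : AddChar (Sym F n) ℂ where
  toFun S := ψ (l S)
  map_zero_eq_one' := by simp
  map_add_eq_mul' S T := by rw [map_add, AddChar.map_add_eq_mul]

theorem lamC_apply (l : Sym F n →ₗ[F] F) (S : Sym F n) : lamC l S = ψ (l S) := rfl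

theorem lamC_bij : Function.Bijective (lamC : (Sym F n →ₗ[F] F) → AddChar (Sym F n) ℂ) := by
  have hinj : Function.Injective (lamC : (Sym F n →ₗ[F] F) → AddChar (Sym F n) ℂ) := fun l l' h =>
    LinearMap.ext fun S => by
      by_contra hne
      obtain ⟨t, ht⟩ := ψ_ne (sub_ne_zero.2 hne)
      apply ht
      have h1 := DFunLike.congr_fun h (t • S)
      rw [lamC_apply, lamC_apply, l.map_smul, l'.map_smul, smul_eq_mul, smul_eq_mul] at h1
      rw [sub_mul, sub_eq_add_neg, AddChar.map_add_eq_mul, mul_comm (l S), h1, mul_comm t,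
        ← AddChar.map_add_eq_mul, add_neg_cancel, AddChar.map_zero_eq_one]
  refine (Fintype.bijective_iff_injective_and_card _).2 ⟨hinj, ?_⟩
  rw [AddChar.card_eq, Module.card_eq_pow_finrank (K := F) (V := Sym F n →ₗ[F] F),
    Module.card_eq_pow_finrank (K := F) (V := Sym F n), Subspace.dual_finrank_eq]

/-- The projection to an eigenspace. -/
noncomputable def pr (l : Sym F n →ₗ[F] F) : Module.End ℂ V :=
  (Fintype.card (Sym F n) : ℂ)⁻¹ • ∑ S : Sym F n, ψ (l (-S)) • ρ (sieg S)

/-- Being an eigenvector. -/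
def Eigv (l : Sym F n →ₗ[F] F) (v : V) : Prop := ∀ S, ρ (sieg S) v = ψ (l S) • v

theorem Eigv.smul {l : Sym F n →ₗ[F] F} {v : V} (h : Eigv ρ l v) (c : ℂ) : Eigv ρ l (c • v) := fun S => by
  rw [map_smul, h S, smul_comm]

theorem pr_eigv (l : Sym F n →ₗ[F] F) (x : V) : Eigv ρ l (pr ρ l x) := by
  intro T
  simp only [pr, LinearMap.smul_apply, LinearMap.sum_apply, map_smul, map_sum, Finset.smul_sum, smul_smul]
  refine Fintype.sum_equiv (Equiv.addLeft T) _ _ fun S => ?_
  rw [Equiv.coe_addLeft, ← Module.End.mul_apply, ← map_mul, ← sieg_add]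
  congr 1
  have : ψ (l T) * ψ (l (-(T + S))) = ψ (l (-S)) := by
    rw [← AddChar.map_add_eq_mul, ← map_add]; congr 2; abel
  rw [← this]; ring

theorem pr_comm (l : Sym F n →ₗ[F] F) (g : Matrix.symplecticGroup (Fin n) F) (h : ∀ S, g * sieg S = sieg S * g)
    (x : V) : pr ρ l (ρ g x) = ρ g (pr ρ l x) := by
  simp only [pr, LinearMap.smul_apply, LinearMap.sum_apply, map_smul, map_sum]
  congr 1
  refine Finset.sum_congr rfl fun S _ => ?_
  rw [← Module.End.mul_apply (ρ (sieg S)), ← map_mul, ← h, map_mul, Module.End.mul_apply]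

theorem sieg_comm (S T : Sym F n) : sieg T * sieg S = sieg S * sieg T := by
  rw [← sieg_add, ← sieg_add, add_comm]

theorem pr_zero_of {l : Sym F n →ₗ[F] F} {x : V} (K : Sym F n → Prop) (hK : ∀ (t : F) S, K S → K (t • S))
    (μ : Sym F n →ₗ[F] F) (hx : ∀ S, K S → ρ (sieg S) x = ψ (μ S) • x) {S : Sym F n} (hS : K S)
    (hne : l S ≠ μ S) : pr ρ l x = 0 := by
  obtain ⟨t, ht⟩ := ψ_ne (sub_ne_zero.2 hne)
  have h1 := pr_eigv ρ l x (t • S)
  rw [← pr_comm ρ l (sieg (t • S)) (fun T => sieg_comm T _) x, hx _ (hK t S hS), LinearMap.map_smul (pr ρ l), l.map_smul, μ.map_smul,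
    smul_eq_mul, smul_eq_mul] at h1
  by_contra h0
  apply ht
  have h2 := smul_left_injective ℂ h0 h1
  rw [mul_comm t (l S), mul_comm t (μ S)] at h2
  rw [sub_mul, sub_eq_add_neg, AddChar.map_add_eq_mul, ← h2, ← AddChar.map_add_eq_mul, add_neg_cancel,
    AddChar.map_zero_eq_one]

theorem pr_ne {l m : Sym F n →ₗ[F] F} {v : V} (h : Eigv ρ m v) (hlm : l ≠ m) : pr ρ l v = 0 := by
  obtain ⟨S, hS⟩ : ∃ S, l S ≠ m S := by
    by_contra h'
    push Not at h'
    exact hlm (LinearMap.ext h')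
  exact pr_zero_of ρ (fun _ => True) (fun _ _ _ => trivial) m (fun S _ => h S) trivial hS

theorem pr_self {l : Sym F n →ₗ[F] F} {v : V} (h : Eigv ρ l v) : pr ρ l v = v := by
  simp only [pr, LinearMap.smul_apply, LinearMap.sum_apply, h _, smul_smul, ← AddChar.map_add_eq_mul, ← map_add,
    neg_add_cancel, map_zero, AddChar.map_zero_eq_one, one_smul, Finset.sum_const, Finset.card_univ,
    ← Nat.cast_smul_eq_nsmul ℂ]
  rw [inv_mul_cancel₀ (Nat.cast_ne_zero.2 Fintype.card_ne_zero), one_smul]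

theorem sum_pr (x : V) : ∑ l, pr ρ l x = x := by
  simp only [pr, LinearMap.smul_apply, LinearMap.sum_apply, ← Finset.smul_sum]
  rw [Finset.sum_comm]
  simp only [← Finset.sum_smul]
  rw [Finset.sum_eq_single (0 : Sym F n) (fun S _ hS => ?_) (by simp)]
  · rw [sieg_zero, map_one, neg_zero, Module.End.one_apply, smul_smul]
    simp only [map_zero, AddChar.map_zero_eq_one, Finset.sum_const, Finset.card_univ, nsmul_eq_mul, mul_one]
    rw [Module.card_eq_pow_finrank (K := F) (V := Sym F n →ₗ[F] F),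
      Module.card_eq_pow_finrank (K := F) (V := Sym F n), Subspace.dual_finrank_eq,
      inv_mul_cancel₀ (Nat.cast_ne_zero.2 (pow_ne_zero _ Fintype.card_ne_zero)), one_smul]
  · rw [show ∑ l : Sym F n →ₗ[F] F, (ψ (l (-S)) : ℂ) = 0 from ?_, zero_smul]
    rw [Fintype.sum_bijective (lamC : (Sym F n →ₗ[F] F) → AddChar (Sym F n) ℂ) lamC_bij
      (fun l : Sym F n →ₗ[F] F => (ψ (l (-S)) : ℂ)) (fun χ => χ (-S)) (fun _ => rfl)]
    exact AddChar.sum_apply_eq_zero_iff_ne_zero.2 (neg_ne_zero.2 hS)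

theorem levi_pr (g : GL (Fin n) F) (l : Sym F n →ₗ[F] F) (x : V) :
    ρ (levi g) (pr ρ (l.comp (cg g)) x) = pr ρ l (ρ (levi g) x) := by
  simp only [pr, LinearMap.smul_apply, LinearMap.sum_apply, map_smul, map_sum]
  congr 1
  refine Fintype.sum_bijective (cg g) ?_ _ _ fun S => ?_
  · refine Finite.injective_iff_bijective.1 fun S T h => Subtype.ext ?_
    have h' : g.1 * S.1 * g.1ᵀ = g.1 * T.1 * g.1ᵀ := congrArg Subtype.val h
    have hu : IsUnit g.1ᵀ := (Matrix.isUnit_transpose (A := g.1)).2 g.isUnit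
    exact g.isUnit.mul_left_cancel (hu.mul_right_cancel h')
  · rw [← Module.End.mul_apply, ← map_mul, levi_sieg, map_mul, Module.End.mul_apply, LinearMap.comp_apply,
      map_neg (cg g)]

theorem levi_eigv {g : GL (Fin n) F} {l : Sym F n →ₗ[F] F} {v : V} (h : Eigv ρ (l.comp (cg g)) v) :
    Eigv ρ l (ρ (levi g) v) := by
  rw [← pr_self ρ h, levi_pr]
  exact pr_eigv ρ l _

/-- The functional occurs. -/
def Occurs (l : Sym F n →ₗ[F] F) : Prop := pr ρ l ≠ 0

theorem occurs_cg {l : Sym F n →ₗ[F] F} (h : Occurs ρ l) (g : GL (Fin n) F) : Occurs ρ (l.comp (cg g)) := by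
  intro h0
  apply h
  refine LinearMap.ext fun x => ?_
  have := levi_pr ρ g l (ρ (levi g)⁻¹ x)
  rw [h0, LinearMap.zero_apply, map_zero, ← Module.End.mul_apply (ρ (levi g)), ← map_mul, mul_inv_cancel, map_one,
    Module.End.one_apply] at this
  rw [LinearMap.zero_apply, ← this]

theorem card_occurs_le [FiniteDimensional ℂ V] (O : Finset (Sym F n →ₗ[F] F)) (hO : ∀ l ∈ O, Occurs ρ l) :
    O.card ≤ finrank ℂ V := by
  classical
  have hex : ∀ l : O, ∃ w, pr ρ l.1 w ≠ 0 := fun l => by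
    by_contra hcon
    push Not at hcon
    exact hO _ l.2 (LinearMap.ext hcon)
  choose w hw using hex
  have hli : LinearIndependent ℂ fun l : O => pr ρ l.1 (w l) := by
    rw [Fintype.linearIndependent_iff]
    intro c hc l
    have := congrArg (pr ρ l.1) hc
    simp only [map_sum, map_smul, map_zero] at this
    rw [Finset.sum_eq_single l (fun l' _ hl' => by
        rw [pr_ne ρ (pr_eigv ρ l'.1 _) (fun h => hl' (Subtype.ext h.symm)), smul_zero])
      (by simp), pr_self ρ (pr_eigv ρ _ _)] at this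
    exact (smul_eq_zero.1 this).resolve_right (hw l)
  simpa using hli.fintype_card_le_finrank

/-- The spectrum has rank at most one. -/
def LowRep : Prop := ∀ l, Occurs ρ l → IsLow l

theorem dim_of_not_low [FiniteDimensional ℂ V] (h2 : (2 : F) ≠ 0) (hn : 2 ≤ n) (h : ¬ LowRep ρ) :
    (Fintype.card F ^ n - 1) * (Fintype.card F ^ n - Fintype.card F) ≤
      2 * (Fintype.card F + 1) * finrank ℂ V := by
  classical
  unfold LowRep at h
  push Not at h
  obtain ⟨l, hl, hnl⟩ := h
  let O : Finset (Sym F n →ₗ[F] F) := Finset.univ.filter fun m => ∃ g : GL (Fin n) F, m = l.comp (cg g)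
  refine (orbit_two h2 hn l hnl O fun g => Finset.mem_filter.2 ⟨Finset.mem_univ _, g, rfl⟩).trans
    (Nat.mul_le_mul_left _ (card_occurs_le ρ O fun m hm => ?_))
  obtain ⟨-, g, rfl⟩ := Finset.mem_filter.1 hm
  exact occurs_cg ρ hl g

/-- The quadratic character. -/
noncomputable def chi (a : F) : ℂ := ((quadraticChar F a : ℤ) : ℂ)

theorem chi_mul (a b : F) : chi (a * b) = chi a * chi b := by rw [chi, chi, chi, map_mul]; push_cast; ring

theorem chi_one : chi (1 : F) = 1 := by rw [chi, map_one]; norm_num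

theorem chi_sq {a : F} (ha : a ≠ 0) : chi a * chi a = 1 := by
  rw [chi, ← Int.cast_mul, ← pow_two, quadraticChar_sq_one ha]; norm_num

theorem chi_inv {a : F} (ha : a ≠ 0) : chi a⁻¹ = chi a := by
  have : chi a⁻¹ * chi a = 1 := by rw [← chi_mul, inv_mul_cancel₀ ha, chi_one]
  calc chi a⁻¹ = chi a⁻¹ * (chi a * chi a) := by rw [chi_sq ha, mul_one]
    _ = chi a := by rw [← mul_assoc, this, one_mul]

/-- The quadratic Gauss sum. -/
noncomputable def Gq (β : F) : ℂ := ∑ b : F, ψ (β * b ^ 2)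

theorem Gq_eq (h2 : (2 : F) ≠ 0) {β : F} (hβ : β ≠ 0) : Gq β = ∑ t : F, chi t * ψ (β * t) := by
  classical
  have hF : ringChar F ≠ 2 := fun h => h2 (by haveI := ringChar.of_eq h; exact CharTwo.two_eq_zero)
  have hz : ∑ t : F, (ψ (β * t) : ℂ) = 0 := by
    have : (AddChar.mulShift (ψ : AddChar F ℂ) β) ≠ 1 := by
      rw [AddChar.ne_one_iff]
      obtain ⟨x, hx⟩ := ψ_ne hβ
      exact ⟨x, by rwa [AddChar.mulShift_apply]⟩
    rw [← AddChar.sum_eq_zero_of_ne_one this]
    simp [AddChar.mulShift_apply]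
  rw [← add_zero (∑ t : F, chi t * ψ (β * t)), ← hz, ← Finset.sum_add_distrib, Gq,
    ← Finset.sum_fiberwise_of_maps_to (g := fun b : F => b ^ 2) (t := Finset.univ) (fun b _ => Finset.mem_univ _)]
  refine Finset.sum_congr rfl fun t _ => ?_
  rw [Finset.sum_congr rfl (fun b hb => by rw [(Finset.mem_filter.1 hb).2]), Finset.sum_const, nsmul_eq_mul]
  have h := quadraticChar_card_sqrts hF t
  have : ((Finset.univ.filter fun b : F => b ^ 2 = t).card : ℂ) = chi t + 1 := by
    rw [chi, ← Int.cast_one (R := ℂ), ← Int.cast_add, ← h, Int.cast_natCast]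
    congr 2
    ext b; simp
  rw [this]; ring

theorem Gq_mul (h2 : (2 : F) ≠ 0) {β a : F} (hβ : β ≠ 0) (ha : a ≠ 0) : Gq (β * a) = chi a * Gq β := by
  rw [Gq_eq h2 (mul_ne_zero hβ ha), Gq_eq h2 hβ, Finset.mul_sum]
  refine Fintype.sum_equiv (Equiv.mulLeft₀ a ha) _ _ fun t => ?_
  show chi t * ψ (β * a * t) = chi a * (chi (a * t) * ψ (β * (a * t)))
  rw [chi_mul, ← mul_assoc, ← mul_assoc, chi_sq ha, one_mul, mul_assoc β a t]

end CfsgLib.SympWeil
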