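import Mathlib
import Cfsg.Agent.Lib.SympWeil.Class.Spectrum

/-! In a representation whose spectrum has rank at most one the partial Fourier elements act by fixed formulas. -/

set_option autoImplicit false
set_option linter.unusedSectionVars false

namespace CfsgLib.SympWeil

open Matrix Module

variable {F : Type*} [Field F] [Fintype F] [DecidableEq F] {n : ℕ}
variable {V : Type*} [AddCommGroup V] [Module ℂ V]
variable (ρ : Representation ℂ (Matrix.symplecticGroup (Fin n) F) V)

/-- The action of the Levi group on rank one labels. -/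
noncomputable def act (g : GL (Fin n) F) (y : Fin n → F) : Fin n → F := (g⁻¹).1ᵀ *ᵥ y

theorem trans_act (g : GL (Fin n) F) (y : Fin n → F) : g.1ᵀ *ᵥ act g y = y := by
  rw [act, mulVec_mulVec, ← transpose_mul, ← Units.val_mul, inv_mul_cancel, Units.val_one, transpose_one, one_mulVec]

theorem act_eigv {c : F} {y : Fin n → F} {v : V} (h : Eigv ρ (rk1 c y) v) (g : GL (Fin n) F) :
    Eigv ρ (rk1 c (act g y)) (ρ (levi g) v) := by
  refine levi_eigv ρ ?_
  rw [rk1_cg, trans_act]
  exact h

theorem rk1_dS (c : F) (y : Fin n → F) (i : Fin n) (α : F) : rk1 c y (dS i α) = c * α * y i ^ 2 := by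
  rw [rk1_apply]
  show c * (y ⬝ᵥ diagonal (fun k => if k = i then α else 0) *ᵥ y) = _
  simp only [dotProduct, mulVec_diagonal, ite_mul, zero_mul, mul_ite, mul_zero, Finset.sum_ite_eq',
    Finset.mem_univ, if_true]
  ring

theorem rk1_cS (c : F) (y : Fin n → F) (i j : Fin n) (μ : F) : rk1 c y (cS i j μ) = 2 * c * μ * (y i * y j) := by
  have e : cS i j μ = μ • symP (Pi.single i 1) (Pi.single j 1) := Subtype.ext (Matrix.ext fun a b => by
    show Matrix.single i j μ a b + Matrix.single j i μ a b =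
      μ * ((Pi.single i (1 : F) : Fin n → F) a * (Pi.single j (1 : F) : Fin n → F) b +
        (Pi.single j (1 : F) : Fin n → F) a * (Pi.single i (1 : F) : Fin n → F) b)
    have h : ∀ (u v a b : Fin n), Matrix.single u v μ a b =
        μ * ((Pi.single u (1 : F) : Fin n → F) a * (Pi.single v (1 : F) : Fin n → F) b) := fun u v a b => by
      by_cases hu : a = u <;> by_cases hv : b = v
      · subst hu; subst hv; simp
      · simp [Matrix.single_apply, Pi.single_apply, hu, hv, Ne.symm hv]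
      · simp [Matrix.single_apply, Pi.single_apply, hu, hv, Ne.symm hu]
      · simp [Matrix.single_apply, Pi.single_apply, hu, hv, Ne.symm hu]
    rw [h, h]
    ring)
  rw [e, map_smul, rk1_symP, smul_eq_mul]
  ring

theorem act_tr (p q : Fin n) (hpq : p ≠ q) (μ : F) (y : Fin n → F) :
    act (tr p q hpq μ) y = Function.update y q (y q - μ * y p) := by
  show (transvection p q (-μ))ᵀ *ᵥ y = _
  rw [transvection, transpose_add, transpose_one, transpose_single, add_mulVec, one_mulVec, single_mulVec]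
  funext k
  rw [Pi.add_apply]
  by_cases hk : k = q
  · subst hk; simp; ring
  · simp [hk]

theorem tr_zero (p q : Fin n) (hpq : p ≠ q) : tr (F := F) p q hpq 0 = 1 :=
  Units.ext (transvection_zero (i := p) (j := q))

theorem sum_orth (h2 : (2 : F) ≠ 0) {c : F} (hc : c ≠ 0) (e : F) :
    ∑ b : F, (ψ (2 * c * b * e) : ℂ) = if e = 0 then (Fintype.card F : ℂ) else 0 := by
  by_cases he : e = 0
  · subst he; simp
  · rw [if_neg he]
    have hne : AddChar.mulShift (ψ : AddChar F ℂ) (2 * c * e) ≠ 1 := by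
      rw [AddChar.ne_one_iff]
      obtain ⟨x, hx⟩ := ψ_ne (mul_ne_zero (mul_ne_zero h2 hc) he)
      exact ⟨x, by rwa [AddChar.mulShift_apply]⟩
    rw [← AddChar.sum_eq_zero_of_ne_one hne]
    exact Finset.sum_congr rfl fun b _ => by rw [AddChar.mulShift_apply]; congr 1; ring

variable (h2 : (2 : F) ≠ 0) (hlow : LowRep ρ) {c : F} (hc : c ≠ 0)

include h2 hlow hc

theorem fibre_decomp {i k : Fin n} (hki : k ≠ i) {y : Fin n → F} (hyk : y k ≠ 0) {v : V}
    (hv : Eigv ρ (rk1 c y) v) :
    ρ (sw i) v = ∑ a : F, pr ρ (rk1 c (Function.update y i a)) (ρ (sw i) v) := by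
  conv_lhs => rw [← sum_pr ρ (ρ (sw i) v)]
  symm
  refine Fintype.sum_of_injective (fun a => rk1 c (Function.update y i a)) ?_ _ _ ?_ (fun a => rfl)
  · intro a b hab
    have hne : Function.update y i a ≠ 0 := fun h0 => hyk (by
      have := congrFun h0 k; rwa [Function.update_of_ne hki] at this)
    rcases rk1_eq_same h2 hc hne hab with h | h
    · simpa using (congrFun h i).symm
    · have := congrFun h k
      rw [Pi.neg_apply, Function.update_of_ne hki, Function.update_of_ne hki] at this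
      exact absurd ((mul_eq_zero.1 (show 2 * y k = 0 by linear_combination this)).resolve_left h2) hyk
  · intro l hl
    by_contra hne
    have hocc : Occurs ρ l := fun h0 => hne (by rw [h0]; rfl)
    obtain ⟨c', z, rfl⟩ := hlow l hocc
    let K : Sym F n → Prop := fun S => ∀ m, S.1 i m = 0
    have hK : ∀ (t : F) S, K S → K (t • S) := fun t S h m => by simp [h m]
    have hx : ∀ S, K S → ρ (sieg S) (ρ (sw i) v) = ψ (rk1 c y S) • ρ (sw i) v := fun S h => by
      rw [← Module.End.mul_apply, ← map_mul, ← sw_sieg_comm i S h, map_mul, Module.End.mul_apply, hv S, map_smul]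
    have hag : ∀ S, K S → rk1 c' z S = rk1 c y S := fun S h => by
      by_contra h'
      exact hne (pr_zero_of ρ K hK _ hx h h')
    obtain ⟨r, hr, e, hz⟩ := rk1_agree hc (c' := c') (z := z) {m | m ≠ i} hki hyk fun a ha b hb =>
      mul_left_cancel₀ h2 (by
        have := hag (symP (Pi.single a 1) (Pi.single b 1)) fun m => by
          have ha' : (i : Fin n) ≠ a := fun h => ha h.symm
          have hb' : (i : Fin n) ≠ b := fun h => hb h.symm
          simp [symP, vecMulVec_apply, Pi.single_eq_of_ne ha', Pi.single_eq_of_ne hb']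
        rw [rk1_symP, rk1_symP] at this
        linear_combination -this)
    refine hl ⟨z i / r, ?_⟩
    show rk1 c (Function.update y i (z i / r)) = rk1 c' z
    have ez : z = r • Function.update y i (z i / r) := funext fun m => by
      by_cases hm : m = i
      · subst hm; simp; field_simp
      · simp [hm, hz m hm]
    conv_rhs => rw [ez, rk1_smul, ← e]

omit h2 hlow hc in
/-- The translation operators along a coordinate. -/
noncomputable def Tt (i j : Fin n) (hji : j ≠ i) (y : Fin n → F) (a : F) : Module.End ℂ V :=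
  ρ (levi (tr j i hji (-a / y j)))

omit h2 hlow hc in
/-- The component of the partial Fourier transform. -/
noncomputable def Gm (c : F) (i : Fin n) (y : Fin n → F) : Module.End ℂ V := pr ρ (rk1 c y) * ρ (sw i)

omit h2 hlow hc in
theorem Gm_eigv (i : Fin n) (y : Fin n → F) (v : V) : Eigv ρ (rk1 c y) (Gm ρ c i y v) := pr_eigv ρ _ _

variable {i j : Fin n} (hji : j ≠ i) {y : Fin n → F} (hyi : y i = 0) (hyj : y j ≠ 0)

include hji hyi hyj

omit h2 hlow hc in
theorem act_Tt (a : F) : act (tr j i hji (-a / y j)) y = Function.update y i a := by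
  rw [act_tr, hyi]
  congr 1
  field_simp
  ring

omit h2 hlow hc in
theorem Tt_eigv {v : V} (hv : Eigv ρ (rk1 c y) v) (a : F) :
    Eigv ρ (rk1 c (Function.update y i a)) (Tt ρ i j hji y a v) := by
  rw [← act_Tt hji hyi hyj a]
  exact act_eigv ρ hv _

omit h2 hlow hc in
theorem Tt_zero (v : V) : Tt ρ i j hji y 0 v = v := by
  rw [Tt, neg_zero, zero_div, tr_zero, levi_one, map_one, Module.End.one_apply]

theorem sw_base {v : V} (hv : Eigv ρ (rk1 c y) v) :
    ρ (sw i) v = ∑ a : F, Tt ρ i j hji y a (Gm ρ c i y v) := by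
  conv_lhs => rw [fibre_decomp ρ h2 hlow hc hji hyj hv]
  refine Finset.sum_congr rfl fun a _ => ?_
  have hfix : ∀ μ : F, ρ (levi (tr j i hji μ)) (ρ (sw i) v) = ρ (sw i) v := fun μ => by
    rw [← Module.End.mul_apply, ← map_mul, ← sw_cS i j hji.symm μ, map_mul, Module.End.mul_apply, hv, rk1_cS, hyi]
    simp
  have e : (rk1 c (Function.update y i a)).comp (cg (tr j i hji (-a / y j))) = rk1 c y := by
    rw [rk1_cg, ← act_Tt hji hyi hyj a, trans_act]
  show _ = ρ (levi (tr j i hji (-a / y j))) (pr ρ (rk1 c y) (ρ (sw i) v))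
  rw [← e, levi_pr, hfix]

theorem sw_T {v : V} (hv : Eigv ρ (rk1 c y) v) (a : F) :
    ρ (sw i) (Tt ρ i j hji y a v) = ∑ b : F, ψ (2 * c * a * b) • Tt ρ i j hji y b (Gm ρ c i y v) := by
  rw [Tt, ← Module.End.mul_apply, ← map_mul, sw_tr i j hji.symm, map_mul, Module.End.mul_apply,
    sw_base ρ h2 hlow hc hji hyi hyj hv, map_sum]
  refine Finset.sum_congr rfl fun b _ => ?_
  rw [Tt_eigv ρ hji hyi hyj (Gm_eigv ρ i y v) b, rk1_cS, Function.update_self,
    Function.update_of_ne hji]
  congr 2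
  field_simp

theorem sw_comb {v : V} (hv : Eigv ρ (rk1 c y) v) (f : F → ℂ) :
    ρ (sw i) (∑ b : F, f b • Tt ρ i j hji y b v) =
      ∑ e : F, (∑ b : F, f b * ψ (2 * c * b * e)) • Tt ρ i j hji y e (Gm ρ c i y v) := by
  rw [map_sum]
  simp only [map_smul, sw_T ρ h2 hlow hc hji hyi hyj hv, Finset.smul_sum, smul_smul]
  rw [Finset.sum_comm]
  simp only [Finset.sum_smul]

omit h2 hlow hc in
theorem dS_T {v : V} (hv : Eigv ρ (rk1 c y) v) (α b : F) :
    ρ (sieg (dS i α)) (Tt ρ i j hji y b v) = ψ (c * α * b ^ 2) • Tt ρ i j hji y b v := by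
  rw [Tt_eigv ρ hji hyi hyj hv b, rk1_dS, Function.update_self]

theorem levi_dd_eq {v : V} (hv : Eigv ρ (rk1 c y) v) (a : Fˣ) :
    ρ (levi (dd i a⁻¹)) v =
      ((Fintype.card F : ℂ) * Gq (c * ((a⁻¹ : Fˣ) : F))) • Gm ρ c i y (Gm ρ c i y (Gm ρ c i y v)) := by
  rw [← sw_cube i a]
  simp only [map_mul, Module.End.mul_apply]
  rw [hv (dS i (a : F)), rk1_dS, hyi]
  simp only [ne_eq, OfNat.ofNat_ne_zero, not_false_eq_true, zero_pow, mul_zero, AddChar.map_zero_eq_one, one_smul]
  have hv1 := Gm_eigv ρ (c := c) i y v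
  have hv2 := Gm_eigv ρ (c := c) i y (Gm ρ c i y v)
  rw [sw_base ρ h2 hlow hc hji hyi hyj hv, map_sum]
  simp only [dS_T ρ hji hyi hyj hv1]
  rw [sw_comb ρ h2 hlow hc hji hyi hyj hv1, map_sum]
  simp only [map_smul, dS_T ρ hji hyi hyj hv2, smul_smul]
  have hG : ∀ e : F, (∑ b : F, ψ (c * ((a⁻¹ : Fˣ) : F) * b ^ 2) * ψ (2 * c * b * e)) * ψ (c * (a : F) * e ^ 2) =
      Gq (c * ((a⁻¹ : Fˣ) : F)) := by
    intro e
    rw [Finset.sum_mul, Gq]
    refine Fintype.sum_equiv (Equiv.addRight ((a : F) * e)) _ _ fun b => ?_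
    rw [← AddChar.map_add_eq_mul, ← AddChar.map_add_eq_mul, Equiv.coe_addRight, Units.val_inv_eq_inv_val]
    congr 1
    have := a.ne_zero
    field_simp
    ring
  simp only [hG]
  have hstep := sw_comb ρ h2 hlow hc hji hyi hyj hv2 (fun _ => Gq (c * ((a⁻¹ : Fˣ) : F)))
  rw [hstep]
  simp only [← Finset.mul_sum, sum_orth h2 hc, mul_ite, mul_zero, ite_smul, zero_smul, Finset.sum_ite_eq',
    Finset.mem_univ, if_true, Tt_zero ρ hji hyi hyj, mul_comm (Fintype.card F : ℂ)]

theorem levi_dd_neg {v : V} (hv : Eigv ρ (rk1 c y) v) :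
    ρ (levi (dd i (-1))) v = (Fintype.card F : ℂ) • Gm ρ c i y (Gm ρ c i y v) := by
  have hv1 := Gm_eigv ρ (c := c) i y v
  rw [← sw_sq, map_mul, Module.End.mul_apply, sw_base ρ h2 hlow hc hji hyi hyj hv]
  have h := sw_comb ρ h2 hlow hc hji hyi hyj hv1 (fun _ => 1)
  simp only [one_smul, one_mul] at h
  rw [h]
  simp only [sum_orth h2 hc, ite_smul, zero_smul, Finset.sum_ite_eq', Finset.mem_univ, if_true,
    Tt_zero ρ hji hyi hyj]

theorem dd_scalar {v : V} (hv : Eigv ρ (rk1 c y) v) (r : Fˣ) : ρ (levi (dd i r)) v = chi (r : F) • v := by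
  have h1 := levi_dd_eq ρ h2 hlow hc hji hyi hyj hv 1
  rw [inv_one, show dd (F := F) i 1 = 1 from Units.ext (by
    show diagonal _ = (1 : Matrix (Fin n) (Fin n) F)
    simp [diagonal_one]), levi_one, map_one, Module.End.one_apply, Units.val_one, mul_one] at h1
  have h := levi_dd_eq ρ h2 hlow hc hji hyi hyj hv r⁻¹
  rw [inv_inv] at h
  rw [h, Gq_mul h2 hc r.ne_zero]
  conv_rhs => rw [h1]
  rw [smul_smul]
  congr 1
  ring

omit h2 hlow hc hji hyi hyj in
/-- The normalising constant. -/
noncomputable def gam (c : F) : ℂ := (chi (-1 : F) * Gq c)⁻¹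

theorem Gm_scalar {v : V} (hv : Eigv ρ (rk1 c y) v) : Gm ρ c i y v = gam c • v := by
  have hq : (Fintype.card F : ℂ) ≠ 0 := Nat.cast_ne_zero.2 Fintype.card_ne_zero
  have h1 := levi_dd_eq ρ h2 hlow hc hji hyi hyj hv 1
  rw [inv_one, show dd (F := F) i 1 = 1 from Units.ext (by
    show diagonal _ = (1 : Matrix (Fin n) (Fin n) F)
    simp [diagonal_one]), levi_one, map_one, Module.End.one_apply, Units.val_one, mul_one] at h1
  have h2' := levi_dd_neg ρ h2 hlow hc hji hyi hyj hv
  rw [dd_scalar ρ h2 hlow hc hji hyi hyj hv, Units.val_neg, Units.val_one] at h2'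
  have h3 : Gm ρ c i y (Gm ρ c i y v) = (chi (-1 : F) * (Fintype.card F : ℂ)⁻¹) • v := by
    rw [mul_comm, ← smul_smul, h2', inv_smul_smul₀ hq]
  rw [h3, map_smul, smul_smul] at h1
  have e : v = (chi (-1 : F) * Gq c) • Gm ρ c i y v := by
    conv_lhs => rw [h1]
    congr 1
    field_simp
  by_cases hG : chi (-1 : F) * Gq c = 0
  · rw [hG, zero_smul] at e; subst e; simp
  · conv_rhs => rw [e, gam, inv_smul_smul₀ hG]

theorem sw_formula {v : V} (hv : Eigv ρ (rk1 c y) v) (a : F) :
    ρ (sw i) (Tt ρ i j hji y a v) = gam c • ∑ b : F, ψ (2 * c * a * b) • Tt ρ i j hji y b v := by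
  rw [sw_T ρ h2 hlow hc hji hyi hyj hv, Gm_scalar ρ h2 hlow hc hji hyi hyj hv, Finset.smul_sum]
  exact Finset.sum_congr rfl fun b _ => by rw [map_smul, smul_comm]

omit hji hyi hyj in
theorem tr_fix {p q : Fin n} (hpq : p ≠ q) {z : Fin n → F} (hz : z ≠ 0) (hzp : z p = 0) {v : V}
    (hv : Eigv ρ (rk1 c z) v) (μ : F) : ρ (levi (tr p q hpq μ)) v = v := by
  obtain ⟨k, hk⟩ := Function.ne_iff.1 hz
  have hkp : k ≠ p := fun e => hk (by rw [e, hzp]; rfl)
  let τ : F → Module.End ℂ V := fun t => ρ (levi (tr p q hpq t))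
  have hadd : ∀ s t x, τ s (τ t x) = τ (s + t) x := fun s t x => by
    show ρ _ (ρ _ x) = ρ _ x
    rw [← Module.End.mul_apply, ← map_mul, ← levi_mul]
    congr 3
    exact Units.ext (transvection_mul_transvection_same p q hpq s t)
  have hτ : Eigv ρ (rk1 c z) (τ μ v) := by
    have := act_eigv ρ hv (tr p q hpq μ)
    rwa [act_tr, hzp, mul_zero, sub_zero, Function.update_eq_self] at this
  let r : Fˣ := Units.mk0 2 h2
  have e := congrArg (fun g => ρ g v) (levi_dd_tr p q hpq r μ)
  simp only [map_mul, Module.End.mul_apply] at e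
  rw [dd_scalar ρ h2 hlow hc hkp hzp hk hτ r, dd_scalar ρ h2 hlow hc hkp hzp hk hv r, map_smul] at e
  have h : τ μ v = τ (μ + μ) v := by
    have hne : chi (r : F) ≠ 0 := fun h0 => by
      have h1 := chi_sq (F := F) r.ne_zero
      rw [h0, zero_mul] at h1
      exact zero_ne_one h1
    rw [← two_mul]
    exact smul_right_injective V hne e
  have h' := congrArg (τ (-μ)) h
  rw [hadd, hadd, neg_add_cancel, neg_add_cancel_left] at h'
  show τ μ v = v
  rw [← h']
  show ρ _ v = v
  rw [tr_zero, levi_one, map_one, Module.End.one_apply]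

end CfsgLib.SympWeil
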