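import Mathlib
import Cfsg.Agent.Lib.SympWeil.Class.Forms
import Cfsg.Agent.Lib.SympWeil.Class.Elements
import Cfsg.Agent.Lib.SympGen

/-! Generators of the general linear group, of a point stabiliser in it, and of the symplectic group. -/

set_option autoImplicit false
set_option linter.unusedSectionVars false

namespace CfsgLib.SympWeil

open Matrix

variable {F : Type*} [Field F] [DecidableEq F] {n : ℕ}

theorem exists_gl {z y : Fin n → F} (hz : z ≠ 0) (hy : y ≠ 0) : ∃ g : GL (Fin n) F, g.1ᵀ *ᵥ z = y := by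
  classical
  obtain ⟨a, ha⟩ := Function.ne_iff.1 hz
  obtain ⟨b, hb⟩ := Function.ne_iff.1 hy
  let D : (Fin n → F) → ((Fin n → F) →ₗ[F] F) := fun z =>
    { toFun := fun x => z ⬝ᵥ x, map_add' := dotProduct_add z, map_smul' := fun c x => dotProduct_smul c z x }
  obtain ⟨g, hg⟩ := exists_move (μ := D z) (ν := D y) one_ne_zero
    (e := Pi.single a (z a)⁻¹) (v := Pi.single b (y b)⁻¹)
    (by show z ⬝ᵥ _ = 1; rw [dotProduct_single, mul_inv_cancel₀ ha])
    (by show y ⬝ᵥ _ = 1; rw [dotProduct_single, mul_inv_cancel₀ hb])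
  refine ⟨g, funext fun k => ?_⟩
  have h : z ⬝ᵥ (g.1 *ᵥ Pi.single k 1) = y ⬝ᵥ Pi.single k 1 := hg _
  rw [dotProduct_mulVec, dotProduct_single, dotProduct_single, mul_one, mul_one] at h
  rw [mulVec_transpose]
  exact h

/-- The transpose of an invertible matrix. -/
def trg (g : GL (Fin n) F) : GL (Fin n) F where
  val := g.1ᵀ
  inv := (g⁻¹).1ᵀ
  val_inv := by rw [← transpose_mul, ← Units.val_mul, inv_mul_cancel, Units.val_one, transpose_one]
  inv_val := by rw [← transpose_mul, ← Units.val_mul, mul_inv_cancel, Units.val_one, transpose_one]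

theorem diag_induct (P : GL (Fin n) F → Prop) (h1 : P 1) (hmul : ∀ g h, P g → P h → P (g * h))
    (s : Finset (Fin n)) : (∀ k ∈ s, ∀ r, P (dd k r)) → ∀ (g : GL (Fin n) F) (D : Fin n → F),
      g.1 = diagonal D → (∀ k ∉ s, D k = 1) → P g := by
  classical
  induction s using Finset.induction_on with
  | empty =>
    intro _ g D hg hD
    have : g = 1 := Units.ext (by
      rw [hg, Units.val_one, ← diagonal_one]
      exact congrArg diagonal (funext fun k => hD k (Finset.notMem_empty k)))
    rwa [this]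
  | insert a s ha ih =>
    intro hdd g D hg hD
    have hDa : D a ≠ 0 := fun h => by
      have hdet : g.1.det ≠ 0 := ((Matrix.isUnit_iff_isUnit_det _).1 g.isUnit).ne_zero
      rw [hg, det_diagonal] at hdet
      exact hdet (Finset.prod_eq_zero (Finset.mem_univ a) h)
    have e : g = dd a (Units.mk0 _ hDa) * ((dd a (Units.mk0 _ hDa))⁻¹ * g) := (mul_inv_cancel_left _ _).symm
    rw [e]
    refine hmul _ _ (hdd a (Finset.mem_insert_self a s) _) (ih (fun k hk => hdd k (Finset.mem_insert_of_mem hk)) _
      (Function.update D a 1) ?_ ?_)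
    · show diagonal _ * g.1 = _
      rw [hg, diagonal_mul_diagonal]
      refine congrArg diagonal (funext fun k => ?_)
      by_cases hk : k = a
      · subst hk; simp [hDa]
      · simp [hk]
    · intro k hk
      by_cases hka : k = a
      · subst hka; simp
      · rw [Function.update_of_ne hka]
        exact hD k (fun h => (Finset.mem_insert.1 h).elim hka hk)

theorem gl_induct (P : GL (Fin n) F → Prop) (h1 : P 1) (hmul : ∀ g h, P g → P h → P (g * h))
    (hdd : ∀ k r, P (dd k r)) (htr : ∀ p q (h : p ≠ q) μ, P (tr p q h μ)) : ∀ g, P g := by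
  classical
  intro g
  have key := diagonal_transvection_induction_of_det_ne_zero
    (fun M : Matrix (Fin n) (Fin n) F => ∀ g : GL (Fin n) F, g.1 = M → P g) g.1
    ((Matrix.isUnit_iff_isUnit_det _).1 g.isUnit).ne_zero
    (fun D _ g hg => diag_induct P h1 hmul Finset.univ (fun k _ r => hdd k r) g D hg
      (fun k hk => absurd (Finset.mem_univ k) hk))
    (fun t g hg => by
      rcases t with ⟨p, q, hpq, μ⟩
      have : g = tr p q hpq μ := Units.ext hg
      rw [this]; exact htr p q hpq μ)
    (fun A B hA hB PA PB g hg => by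
      have : g = Matrix.GeneralLinearGroup.mkOfDetNeZero A hA * Matrix.GeneralLinearGroup.mkOfDetNeZero B hB :=
        Units.ext hg
      rw [this]; exact hmul _ _ (PA _ rfl) (PB _ rfl))
  exact key g rfl

section Stab

variable (i₀ : Fin n)

/-- The coordinates off a chosen one, and the chosen one. -/
abbrev splitAt : {k : Fin n // k ≠ i₀} ⊕ {k : Fin n // ¬k ≠ i₀} ≃ Fin n := Equiv.sumCompl _

/-- A matrix on the other coordinates, extended by the identity. -/
def emb (M : Matrix {k : Fin n // k ≠ i₀} {k : Fin n // k ≠ i₀} F) : Matrix (Fin n) (Fin n) F :=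
  reindex (splitAt i₀) (splitAt i₀) (fromBlocks M 0 0 1)

theorem emb_mul (A B : Matrix {k : Fin n // k ≠ i₀} {k : Fin n // k ≠ i₀} F) :
    emb i₀ (A * B) = emb i₀ A * emb i₀ B := by
  simp only [emb, reindex_apply, submatrix_mul_equiv, fromBlocks_multiply, Matrix.mul_zero, Matrix.zero_mul, Matrix.mul_one, add_zero, zero_add,
    one_mul]

theorem det_emb (A : Matrix {k : Fin n // k ≠ i₀} {k : Fin n // k ≠ i₀} F) : (emb i₀ A).det = A.det := by
  rw [emb, det_reindex_self, det_fromBlocks_zero₂₁, det_one, mul_one]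

theorem emb_eq (M : Matrix {k : Fin n // k ≠ i₀} {k : Fin n // k ≠ i₀} F) (N : Matrix (Fin n) (Fin n) F)
    (hA : ∀ a b : {k : Fin n // k ≠ i₀}, N a b = M a b) (hrow : ∀ k, k ≠ i₀ → N i₀ k = 0)
    (hcol : ∀ k, k ≠ i₀ → N k i₀ = 0) (h1 : N i₀ i₀ = 1) : emb i₀ M = N := by
  ext a b
  obtain ⟨a, rfl⟩ := (splitAt i₀).surjective a
  obtain ⟨b, rfl⟩ := (splitAt i₀).surjective b
  simp only [emb, reindex_apply, submatrix_apply, Equiv.symm_apply_apply]
  rcases a with a | ⟨a, ha⟩ <;> rcases b with b | ⟨b, hb⟩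
  · exact (hA a b).symm
  · obtain rfl : b = i₀ := not_not.1 hb
    exact (hcol a.1 a.2).symm
  · obtain rfl : a = i₀ := not_not.1 ha
    exact (hrow b.1 b.2).symm
  · obtain rfl : b = i₀ := not_not.1 hb
    obtain rfl : a = b := not_not.1 ha
    show (1 : Matrix {k : Fin n // ¬k ≠ a} {k : Fin n // ¬k ≠ a} F) _ _ = N a a
    rw [one_apply_eq, h1]

theorem stab_induct (P : GL (Fin n) F → Prop) (h1 : P 1) (hmul : ∀ g h, P g → P h → P (g * h))
    (hdd : ∀ k r, k ≠ i₀ → P (dd k r)) (htr : ∀ p q (h : p ≠ q) μ, p ≠ i₀ → P (tr p q h μ)) :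
    ∀ g : GL (Fin n) F, g.1ᵀ *ᵥ Pi.single i₀ 1 = Pi.single i₀ 1 → P g := by
  classical
  have base : ∀ g : GL (Fin n) F, (∀ k, k ≠ i₀ → g.1 i₀ k = 0) → g.1 i₀ i₀ = 1 →
      (∀ k, k ≠ i₀ → g.1 k i₀ = 0) → P g := by
    intro g hrow hone hcol
    let A : Matrix {k : Fin n // k ≠ i₀} {k : Fin n // k ≠ i₀} F := fun a b => g.1 a b
    have hA : emb i₀ A = g.1 := emb_eq i₀ A g.1 (fun _ _ => rfl) hrow hcol hone
    have key := diagonal_transvection_induction_of_det_ne_zero
      (fun M : Matrix {k : Fin n // k ≠ i₀} {k : Fin n // k ≠ i₀} F =>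
        ∀ g : GL (Fin n) F, g.1 = emb i₀ M → P g) A
      (by rw [← det_emb i₀ A, hA]; exact ((Matrix.isUnit_iff_isUnit_det _).1 g.isUnit).ne_zero)
      (fun D _ g hg => by
        refine diag_induct P h1 hmul (Finset.univ.erase i₀) (fun k hk r => hdd k r (Finset.ne_of_mem_erase hk)) g
          (fun k => if h : k ≠ i₀ then D ⟨k, h⟩ else 1) (hg.trans (emb_eq i₀ _ _ ?_ ?_ ?_ ?_))
          (fun k hk => dif_neg fun h => hk (Finset.mem_erase.2 ⟨h, Finset.mem_univ k⟩))
        · intro a b
          by_cases hab : a = b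
          · subst hab; rw [diagonal_apply_eq, diagonal_apply_eq, dif_pos a.2]
          · rw [diagonal_apply_ne _ hab, diagonal_apply_ne _ fun h => hab (Subtype.ext h)]
        · intro k hk; exact diagonal_apply_ne _ hk.symm
        · intro k hk; exact diagonal_apply_ne _ hk
        · rw [diagonal_apply_eq, dif_neg (not_not.2 rfl)])
      (fun t g hg => by
        rcases t with ⟨⟨p, hp⟩, ⟨q, hq⟩, hpq, μ⟩
        have hpq' : p ≠ q := fun h => hpq (Subtype.ext h)
        have : g = tr p q hpq' μ := Units.ext (hg.trans (emb_eq i₀ _ _ ?_ ?_ ?_ ?_))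
        · rw [this]; exact htr p q hpq' μ hp
        · rintro ⟨a, ha⟩ ⟨b, hb⟩
          simp [tr, TransvectionStruct.toMatrix, transvection, Matrix.single_apply, Matrix.one_apply, Subtype.ext_iff]
        · intro k hk
          simp [tr, transvection, Matrix.single_apply, hp, hk.symm]
        · intro k hk
          simp [tr, transvection, Matrix.single_apply, hq, hk]
        · simp [tr, transvection, Matrix.single_apply, hp])
      (fun A B hA' hB' PA PB g hg => by
        have hA0 : (emb i₀ A).det ≠ 0 := by rwa [det_emb]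
        have hB0 : (emb i₀ B).det ≠ 0 := by rwa [det_emb]
        have : g = Matrix.GeneralLinearGroup.mkOfDetNeZero _ hA0 * Matrix.GeneralLinearGroup.mkOfDetNeZero _ hB0 :=
          Units.ext (hg.trans (emb_mul i₀ A B))
        rw [this]; exact hmul _ _ (PA _ rfl) (PB _ rfl))
    exact key g hA.symm
  have clear : ∀ s : Finset (Fin n), ∀ g : GL (Fin n) F, (∀ k, k ≠ i₀ → g.1 i₀ k = 0) → g.1 i₀ i₀ = 1 →
      (∀ k, k ≠ i₀ → k ∉ s → g.1 k i₀ = 0) → P g := by
    intro s
    induction s using Finset.induction_on with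
    | empty => exact fun g hr ho hc => base g hr ho fun k hk => hc k hk (Finset.notMem_empty k)
    | insert a s _ ih =>
      intro g hr ho hc
      by_cases ha : a = i₀
      · exact ih g hr ho fun k hk hks => hc k hk fun h => (Finset.mem_insert.1 h).elim (fun e => hk (e.trans ha)) hks
      · have e : g = tr a i₀ ha (g.1 a i₀) * ((tr a i₀ ha (g.1 a i₀))⁻¹ * g) := (mul_inv_cancel_left _ _).symm
        rw [e]
        refine hmul _ _ (htr _ _ _ _ ha) (ih _ ?_ ?_ ?_)
        · intro k hk
          show (transvection a i₀ (-g.1 a i₀) * g.1) i₀ k = 0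
          rw [transvection_mul_apply_of_ne _ _ _ _ (Ne.symm ha), hr k hk]
        · show (transvection a i₀ (-g.1 a i₀) * g.1) i₀ i₀ = 1
          rw [transvection_mul_apply_of_ne _ _ _ _ (Ne.symm ha), ho]
        · intro k hk hks
          show (transvection a i₀ (-g.1 a i₀) * g.1) k i₀ = 0
          by_cases hka : k = a
          · subst hka
            rw [transvection_mul_apply_same, ho]; ring
          · rw [transvection_mul_apply_of_ne _ _ _ _ hka, hc k hk fun h => (Finset.mem_insert.1 h).elim hka hks]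
  intro g hg
  have hrow : ∀ k, g.1 i₀ k = (Pi.single i₀ 1 : Fin n → F) k := fun k => by
    rw [← congrFun hg k, mulVec_single]; simp
  exact clear Finset.univ g (fun k hk => by rw [hrow, Pi.single_eq_of_ne hk]) (by rw [hrow, Pi.single_eq_same])
    fun k _ h => absurd (Finset.mem_univ k) h

end Stab

theorem tv_inl (i : Fin n) (c : F) :
    SympTransvection.tv (Sum.elim (Pi.single i (1 : F)) 0) c = sieg (dS i c) := by
  refine ext_act fun x => ?_
  rw [SympGen.tv_apply, sieg_apply]
  have hB : SympGen.B x (Sum.elim (Pi.single i (1 : F)) 0) = x (Sum.inr i) := by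
    simp [SympGen.B, Matrix.J, Matrix.fromBlocks_mulVec, dotProduct, Fintype.sum_sum_type, Matrix.one_apply]
  rw [hB]
  funext k
  rcases k with k | k
  · by_cases hk : k = i
    · subst hk; simp [dS, mulVec_diagonal, fs, sn]
    · simp [dS, mulVec_diagonal, fs, sn, hk]
  · simp [fs, sn]

/-- The generators. -/
def gens (F : Type*) [Field F] [DecidableEq F] (n : ℕ) : Set (Matrix.symplecticGroup (Fin n) F) :=
  Set.range levi ∪ Set.range sieg ∪ Set.range sw

theorem gens_top (i : Fin n) : Subgroup.closure (gens F n) = ⊤ := by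
  classical
  rw [eq_top_iff, ← SympGen.TV_eq_top (F := F) (m := n)]
  refine (Subgroup.closure_le _).2 ?_
  rintro A ⟨u, c, hA⟩
  obtain rfl : A = SympTransvection.tv u c := Subtype.ext hA
  set H := Subgroup.closure (gens F n)
  have hl : ∀ g, levi g ∈ H := fun g => Subgroup.subset_closure (Or.inl (Or.inl ⟨g, rfl⟩))
  have hs : ∀ S, sieg S ∈ H := fun S => Subgroup.subset_closure (Or.inl (Or.inr ⟨S, rfl⟩))
  have hw : ∀ k, sw k ∈ H := fun k => Subgroup.subset_closure (Or.inr ⟨k, rfl⟩)
  by_cases hu : u = 0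
  · subst hu
    rw [show SympTransvection.tv (0 : V2 F n) c = 1 from ext_act fun x => by
      rw [SympGen.tv_apply, SympGen.one_apply, smul_zero, add_zero]]
    exact one_mem H
  have hx0 : (Pi.single i (1 : F) : Fin n → F) ≠ 0 := fun h => by simpa using congrFun h i
  obtain ⟨h, hh, he⟩ : ∃ h ∈ H, h.1 *ᵥ u = Sum.elim (Pi.single i (1 : F)) 0 := by
    by_cases hb : sn u = 0
    · have ha : fs u ≠ 0 := fun h => hu (funext fun k => by
        rcases k with k | k
        · exact congrFun h k
        · exact congrFun hb k)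
      obtain ⟨g, hg⟩ := exists_gl ha hx0
      refine ⟨levi (trg g), hl _, ?_⟩
      rw [levi_apply, hb, mulVec_zero]
      exact congrArg₂ Sum.elim hg rfl
    · obtain ⟨g, hg⟩ := exists_gl hb hx0
      let v := (g⁻¹).1 *ᵥ fs u
      let S : Sym F n := -symP (Pi.single i 1) v + dS i (v i)
      refine ⟨sw i * (sieg S * levi g⁻¹), mul_mem (hw i) (mul_mem (hs S) (hl _)), ?_⟩
      rw [SympGen.mul_apply, SympGen.mul_apply, levi_apply, inv_inv, hg, sieg_apply]
      have hS : S.1 *ᵥ Pi.single i 1 = -v := by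
        show (-(vecMulVec (Pi.single i 1) v + vecMulVec v (Pi.single i 1)) +
          diagonal fun k => if k = i then v i else 0) *ᵥ Pi.single i 1 = -v
        funext k
        rw [mulVec_single]
        simp [vecMulVec_apply, diagonal_apply, Pi.single_apply]
        by_cases hk : k = i
        · subst hk; simp
        · simp [hk]
      show (sw i).1 *ᵥ Sum.elim (v + S.1 *ᵥ Pi.single i 1) (Pi.single i 1) = _
      rw [hS, add_neg_cancel, sw, dg_apply]
      refine congrArg₂ Sum.elim (funext fun k => ?_) (funext fun k => ?_) <;>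
        · by_cases hk : k = i
          · subst hk; simp [fs, sn]
          · simp [fs, sn, hk]
  have e : SympTransvection.tv u c = h⁻¹ * sieg (dS i c) * h := by
    rw [← tv_inl, ← he, ← SympGen.conj_tv]; group
  rw [e]
  exact mul_mem (mul_mem (inv_mem hh) (hs _)) hh

theorem gens_induct (i : Fin n) [Finite F] (P : Matrix.symplecticGroup (Fin n) F → Prop)
    (hg : ∀ g ∈ gens F n, P g) (h1 : P 1) (hmul : ∀ a b, P a → P b → P (a * b)) : ∀ g, P g := by
  have hpow : ∀ g, P g → ∀ k : ℕ, P (g ^ k) := fun g hg k => by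
    induction k with
    | zero => rwa [pow_zero]
    | succ k ih => rw [pow_succ]; exact hmul _ _ ih hg
  let K : Subgroup (Matrix.symplecticGroup (Fin n) F) :=
    { carrier := {g | P g}
      one_mem' := h1
      mul_mem' := fun {a b} ha hb => hmul a b ha hb
      inv_mem' := fun {a} ha => by
        show P a⁻¹
        have : a⁻¹ = a ^ (orderOf a - 1) := inv_eq_of_mul_eq_one_right (by
          rw [← pow_succ', Nat.sub_add_cancel (orderOf_pos a), pow_orderOf_eq_one])
        rw [this]; exact hpow a ha _ }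
  intro g
  have : g ∈ Subgroup.closure (gens F n) := by rw [gens_top i]; exact Subgroup.mem_top g
  exact (Subgroup.closure_le K).2 hg this

end CfsgLib.SympWeil
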