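import Mathlib
import Cfsg.Agent.Lib.SympWeil.Class.Fibre
import Cfsg.Agent.Lib.SympWeil.Class.Gen

/-! A representation of the symplectic group with spectrum of rank at most one is a Weil representation. -/

set_option autoImplicit false
set_option linter.unusedSectionVars false
set_option maxHeartbeats 800000

namespace CfsgLib.SympWeil

open Matrix Module

variable {F : Type*} [Field F] [Fintype F] [DecidableEq F] {n : ℕ}
variable {V : Type*} [AddCommGroup V] [Module ℂ V]

theorem act_mul (g h : GL (Fin n) F) (y : Fin n → F) : act (g * h) y = act g (act h y) := by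
  rw [act, act, act, _root_.mul_inv_rev, Units.val_mul, transpose_mul, mulVec_mulVec]

theorem act_one (y : Fin n → F) : act (1 : GL (Fin n) F) y = y := by
  rw [act, inv_one, Units.val_one, transpose_one, one_mulVec]

theorem act_trans (g : GL (Fin n) F) (y : Fin n → F) : act g (g.1ᵀ *ᵥ y) = y := by
  rw [act, mulVec_mulVec, ← transpose_mul, ← Units.val_mul, mul_inv_cancel, Units.val_one, transpose_one, one_mulVec]

theorem act_zero (g : GL (Fin n) F) : act g (0 : Fin n → F) = 0 := mulVec_zero _

theorem act_ne (g : GL (Fin n) F) {y : Fin n → F} (hy : y ≠ 0) : act g y ≠ 0 := fun h => hy (by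
  rw [← trans_act g y, h, mulVec_zero])

theorem act_dd (k : Fin n) (r : Fˣ) (y : Fin n → F) :
    act (dd k r) y = Function.update y k ((((r⁻¹ : Fˣ) : F)) * y k) := by
  show (diagonal fun l => if l = k then ((r⁻¹ : Fˣ) : F) else 1)ᵀ *ᵥ y = _
  rw [diagonal_transpose]
  funext l
  rw [mulVec_diagonal]
  by_cases hl : l = k
  · subst hl; simp
  · simp [hl]

theorem chi_det_mul (g h : GL (Fin n) F) : chi (g * h).1.det = chi g.1.det * chi h.1.det := by
  rw [Units.val_mul, det_mul, chi_mul]

theorem chi_det_sq (g : GL (Fin n) F) : chi g.1.det * chi g.1.det = 1 :=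
  chi_sq ((Matrix.isUnit_iff_isUnit_det _).1 g.isUnit).ne_zero

theorem rho_inj {G : Type*} [Group G] (ρ : Representation ℂ G V) (g : G) : Function.Injective (ρ g) := fun x y h => by
  have := congrArg (ρ g⁻¹) h
  rwa [← Module.End.mul_apply, ← Module.End.mul_apply, ← map_mul, inv_mul_cancel, map_one] at this

/-- A representation with rank one spectrum, together with a base eigenvector. -/
structure Dat (ρ : Representation ℂ (Matrix.symplecticGroup (Fin n) F) V) where
  h2 : (2 : F) ≠ 0
  hlow : LowRep ρ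
  irr : ρ.IsIrreducible
  fd : FiniteDimensional ℂ V
  c : F
  hc : c ≠ 0
  i₀ : Fin n
  i₁ : Fin n
  h10 : i₁ ≠ i₀
  v0 : V
  hv0 : v0 ≠ 0
  hv : Eigv ρ (rk1 c (Pi.single i₀ 1)) v0

namespace Dat

variable {ρ : Representation ℂ (Matrix.symplecticGroup (Fin n) F) V} (D : Dat ρ)

/-- The base label. -/
def x0 : Fin n → F := Pi.single D.i₀ 1

theorem x0_ne : D.x0 ≠ 0 := fun h => by simpa [x0] using congrFun h D.i₀

include D in
theorem other (i : Fin n) : ∃ j, j ≠ i := by
  by_cases h : D.i₀ = i
  · exact ⟨D.i₁, h ▸ D.h10⟩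
  · exact ⟨D.i₀, h⟩

theorem stab (g : GL (Fin n) F) (hg : g.1ᵀ *ᵥ D.x0 = D.x0) : ρ (levi g) D.v0 = chi g.1.det • D.v0 := by
  refine stab_induct D.i₀ (fun g => ρ (levi g) D.v0 = chi g.1.det • D.v0) ?_ (fun g h hg hh => ?_)
    (fun k r hk => ?_) (fun p q hpq μ hp => ?_) g hg
  · rw [levi_one, map_one, Units.val_one, det_one, chi_one, one_smul, Module.End.one_apply]
  · rw [levi_mul, map_mul, Module.End.mul_apply, hh, map_smul, hg, smul_smul, chi_det_mul, mul_comm]
  · rw [det_dd]
    exact dd_scalar ρ D.h2 D.hlow D.hc (i := k) (j := D.i₀) hk.symm (Pi.single_eq_of_ne hk _) (by simp) D.hv r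
  · rw [det_tr, chi_one, one_smul]
    exact tr_fix ρ D.h2 D.hlow D.hc hpq D.x0_ne (Pi.single_eq_of_ne hp _) D.hv μ

open Classical in
/-- The eigenvector attached to a label. -/
noncomputable def w (y : Fin n → F) : V :=
  if h : y ≠ 0 then chi (exists_gl h D.x0_ne).choose.1.det • ρ (levi (exists_gl h D.x0_ne).choose) D.v0 else 0

theorem w_zero : D.w 0 = 0 := dif_neg (not_not.2 rfl)

theorem w_eq {y : Fin n → F} {g : GL (Fin n) F} (hg : g.1ᵀ *ᵥ y = D.x0) :
    D.w y = chi g.1.det • ρ (levi g) D.v0 := by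
  have hy : y ≠ 0 := fun h => D.x0_ne (by rw [← hg, h, mulVec_zero])
  rw [w, dif_pos hy]
  generalize hg' : (exists_gl hy D.x0_ne).choose = g'
  have h' : g'.1ᵀ *ᵥ y = D.x0 := hg' ▸ (exists_gl hy D.x0_ne).choose_spec
  have hs : (g⁻¹ * g').1ᵀ *ᵥ D.x0 = D.x0 := by
    rw [Units.val_mul, transpose_mul, ← mulVec_mulVec]
    show g'.1ᵀ *ᵥ act g D.x0 = D.x0
    rw [← hg, act_trans, h', hg]
  conv_lhs => rw [show g' = g * (g⁻¹ * g') from (mul_inv_cancel_left g g').symm]
  rw [levi_mul, map_mul, Module.End.mul_apply, D.stab _ hs, map_smul, smul_smul, chi_det_mul g (g⁻¹ * g'), mul_assoc,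
    chi_det_sq, mul_one]

theorem w_levi (h : GL (Fin n) F) (y : Fin n → F) :
    ρ (levi h) (D.w y) = chi h.1.det • D.w (act h y) := by
  by_cases hy : y = 0
  · subst hy; rw [act_zero, w_zero, map_zero, smul_zero]
  obtain ⟨g, hg⟩ := exists_gl hy D.x0_ne
  have hhg : (h * g).1ᵀ *ᵥ act h y = D.x0 := by
    rw [Units.val_mul, transpose_mul, ← mulVec_mulVec, trans_act, hg]
  rw [D.w_eq hg, D.w_eq hhg, levi_mul, map_mul, Module.End.mul_apply, map_smul, smul_smul, chi_det_mul, ← mul_assoc,
    chi_det_sq, one_mul]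

theorem w_x0 : D.w D.x0 = D.v0 := by
  rw [D.w_eq (g := 1) (by rw [Units.val_one, transpose_one, one_mulVec]), levi_one, map_one, Units.val_one, det_one,
    chi_one, one_smul, Module.End.one_apply]

theorem w_eigv (y : Fin n → F) : Eigv ρ (rk1 D.c y) (D.w y) := by
  by_cases hy : y = 0
  · subst hy; intro S; rw [w_zero, map_zero, smul_zero]
  obtain ⟨g, hg⟩ := exists_gl hy D.x0_ne
  rw [D.w_eq hg]
  have : act g D.x0 = y := by rw [← hg, act_trans]
  refine Eigv.smul ρ ?_ _
  rw [← this]
  exact act_eigv ρ D.hv g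

theorem w_ne {y : Fin n → F} (hy : y ≠ 0) : D.w y ≠ 0 := by
  obtain ⟨g, hg⟩ := exists_gl hy D.x0_ne
  rw [D.w_eq hg]
  intro h
  refine D.hv0 (rho_inj ρ (levi g) ?_)
  rw [map_zero]
  refine (smul_eq_zero.1 h).resolve_left fun h0 => ?_
  have := chi_det_sq g
  rw [h0, zero_mul] at this
  exact zero_ne_one this

/-- The normalising constant. -/
noncomputable def γ : ℂ := gam D.c

theorem w_T {i j : Fin n} (hji : j ≠ i) {y : Fin n → F} (hyi : y i = 0) (hyj : y j ≠ 0) (a : F) :
    Tt ρ i j hji y a (D.w y) = D.w (Function.update y i a) := by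
  rw [Tt, D.w_levi, det_tr, chi_one, one_smul, act_Tt hji hyi hyj]

theorem sw_w_off {i j : Fin n} (hji : j ≠ i) {y : Fin n → F} (hyj : y j ≠ 0) :
    ρ (sw i) (D.w y) = D.γ • ∑ b : F, ψ (2 * D.c * y i * b) • D.w (Function.update y i b) := by
  have hy0j : Function.update y i 0 j ≠ 0 := by rwa [Function.update_of_ne hji]
  have h := sw_formula ρ D.h2 D.hlow D.hc hji (y := Function.update y i 0) (Function.update_self ..) hy0j
    (D.w_eigv _) (y i)
  simp only [D.w_T hji (Function.update_self ..) hy0j, Function.update_idem, Function.update_eq_self] at h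
  exact h

theorem γ_ne : D.γ ≠ 0 := fun h => by
  have e := D.sw_w_off D.h10.symm (y := D.x0) (by simp [x0])
  rw [h, zero_smul] at e
  exact D.w_ne D.x0_ne (rho_inj ρ _ (e.trans (map_zero _).symm))

theorem γ_sq : D.γ * D.γ * (Fintype.card F : ℂ) = chi (-1 : F) := by
  have hi : D.x0 D.i₁ = 0 := Pi.single_eq_of_ne D.h10 _
  have hj : D.x0 D.i₀ ≠ 0 := by simp [x0]
  have h := levi_dd_neg ρ D.h2 D.hlow D.hc D.h10.symm hi hj D.hv
  rw [dd_scalar ρ D.h2 D.hlow D.hc D.h10.symm hi hj D.hv,
    Gm_scalar ρ D.h2 D.hlow D.hc D.h10.symm hi hj D.hv, map_smul,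
    Gm_scalar ρ D.h2 D.hlow D.hc D.h10.symm hi hj D.hv, smul_smul, smul_smul, Units.val_neg, Units.val_one] at h
  have h' := smul_left_injective ℂ D.hv0 h
  show gam D.c * gam D.c * _ = _
  linear_combination -h'

/-- The candidate for the vector at the zero label. -/
noncomputable def Rv (i : Fin n) (a : F) : V :=
  D.γ⁻¹ • ρ (sw i) (D.w (Pi.single i a)) - ∑ e : F, ψ (2 * D.c * a * e) • D.w (Pi.single i e)

theorem sw_axis (i : Fin n) (a : F) : ρ (sw i) (D.w (Pi.single i a)) =
    D.γ • (D.Rv i a + ∑ e : F, ψ (2 * D.c * a * e) • D.w (Pi.single i e)) := by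
  rw [Rv, sub_add_cancel, smul_inv_smul₀ D.γ_ne]

theorem Rv_eq {i j : Fin n} (hij : i ≠ j) {a b : F} (ha : a ≠ 0) (hb : b ≠ 0) : D.Rv i a = D.Rv j b := by
  have key : ∀ i j : Fin n, i ≠ j → ∀ a b : F, b ≠ 0 →
      ρ (sw j) (ρ (sw i) (D.w (Function.update (Pi.single j b) i a))) = (D.γ * D.γ) • (D.Rv j b +
        ∑ e : F, ∑ d : F, (ψ (2 * D.c * a * e) * ψ (2 * D.c * b * d)) •
          D.w (Function.update (Pi.single i e) j d)) := by
    intro i j hij a b hb
    have hb' : Function.update (Pi.single j b : Fin n → F) i a j ≠ 0 := by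
      rwa [Function.update_of_ne hij.symm, Pi.single_eq_same]
    rw [D.sw_w_off hij.symm hb', Function.update_self]
    simp only [Function.update_idem, map_smul, map_sum]
    have hz : ∀ e : F, ρ (sw j) (D.w (Function.update (Pi.single j b) i e)) = D.γ • ((if e = 0 then D.Rv j b else 0) +
        ∑ d : F, ψ (2 * D.c * b * d) • D.w (Function.update (Pi.single i e) j d)) := by
      intro e
      by_cases he : e = 0
      · subst he
        rw [if_pos rfl, show Function.update (Pi.single j b : Fin n → F) i 0 = Pi.single j b from by simp [hij],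
          D.sw_axis]
        simp only [Pi.single_zero]
        rfl
      · rw [if_neg he, zero_add, D.sw_w_off hij (y := Function.update (Pi.single j b) i e) (by
          rwa [Function.update_self])]
        congr 1
        refine Finset.sum_congr rfl fun d _ => ?_
        rw [Function.update_of_ne hij.symm, Pi.single_eq_same]
        congr 2
        funext k
        by_cases hkj : k = j
        · subst hkj; simp
        · by_cases hki : k = i
          · subst hki; simp [hij]
          · simp [hkj, hki]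
    simp only [hz, smul_add, Finset.sum_add_distrib, smul_ite, smul_zero, Finset.sum_ite_eq', Finset.mem_univ,
      if_true, mul_zero, AddChar.map_zero_eq_one, one_smul, Finset.smul_sum, smul_smul]
    congr 1
    · rw [one_mul]
    refine Finset.sum_congr rfl fun e _ => Finset.sum_congr rfl fun d _ => ?_
    congr 1
    ring
  have h1 := key i j hij a b hb
  have h2 := key j i hij.symm b a ha
  rw [show Function.update (Pi.single j b : Fin n → F) i a = Function.update (Pi.single i a) j b from funext fun k => by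
      by_cases hki : k = i
      · subst hki; simp [hij]
      · by_cases hkj : k = j
        · subst hkj; simp [hki]
        · simp [hki, hkj],
    ← Module.End.mul_apply, ← map_mul, ← sw_comm i j hij, map_mul, Module.End.mul_apply, h2] at h1
  have e : ∑ e : F, ∑ d : F, (ψ (2 * D.c * b * e) * ψ (2 * D.c * a * d)) •
          D.w (Function.update (Pi.single j e) i d) =
      ∑ e : F, ∑ d : F, (ψ (2 * D.c * a * e) * ψ (2 * D.c * b * d)) •
          D.w (Function.update (Pi.single i e) j d) := by
    rw [Finset.sum_comm]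
    refine Finset.sum_congr rfl fun e _ => Finset.sum_congr rfl fun d _ => ?_
    congr 1
    · ring
    · congr 1
      funext k
      by_cases hki : k = i
      · subst hki; simp [hij]
      · by_cases hkj : k = j
        · subst hkj; simp [hki]
        · simp [hki, hkj]
  rw [e] at h1
  exact add_right_cancel (smul_right_injective V (mul_ne_zero D.γ_ne D.γ_ne) h1)

/-- The vector at the zero label. -/
noncomputable def u : V := D.Rv D.i₀ 1

theorem Rv_u (i : Fin n) {a : F} (ha : a ≠ 0) : D.Rv i a = D.u := by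
  by_cases h : i = D.i₀
  · subst h
    exact (D.Rv_eq D.h10.symm ha one_ne_zero).trans (D.Rv_eq D.h10.symm one_ne_zero one_ne_zero).symm
  · exact D.Rv_eq h ha one_ne_zero

theorem sw_u (i : Fin n) : ρ (sw i) D.u = D.γ • (D.u + ∑ e : F, D.w (Pi.single i e)) := by
  classical
  have h := D.sw_axis i 1
  rw [D.Rv_u i one_ne_zero] at h
  have h' := congrArg (ρ (sw i)) h
  have hact : act (dd i (-1)) (Pi.single i (1 : F) : Fin n → F) = Pi.single i (-1) := by
    rw [act_dd]; funext k
    by_cases hk : k = i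
    · subst hk; simp
    · simp [hk]
  rw [← Module.End.mul_apply, ← map_mul, sw_sq, D.w_levi, det_dd, hact, Units.val_neg, Units.val_one] at h'
  have hterm : ∀ e : F, ρ (sw i) (D.w (Pi.single i e)) =
      (if e = 0 then (0 : ℂ) else 1) • (D.γ • (D.u + ∑ d : F, ψ (2 * D.c * e * d) • D.w (Pi.single i d))) := by
    intro e
    by_cases he : e = 0
    · subst he; rw [if_pos rfl, zero_smul, Pi.single_zero, w_zero, map_zero]
    · rw [if_neg he, one_smul, D.sw_axis, D.Rv_u i he]
  let α : F → ℂ := fun e => ψ (2 * D.c * 1 * e) * (if e = 0 then (0 : ℂ) else 1)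
  have hX : ∑ e : F, ψ (2 * D.c * 1 * e) • ρ (sw i) (D.w (Pi.single i e)) =
      D.γ • ((∑ e : F, α e) • D.u + ∑ d : F, (∑ e : F, α e * ψ (2 * D.c * e * d)) • D.w (Pi.single i d)) := by
    simp only [hterm, α, Finset.sum_smul, smul_add, Finset.smul_sum, Finset.sum_add_distrib, smul_smul]
    rw [Finset.sum_comm (γ := F)]
    congr 1
    · exact Finset.sum_congr rfl fun e _ => by congr 1; ring
    · exact Finset.sum_congr rfl fun d _ => Finset.sum_congr rfl fun e _ => by congr 1; ring
  have h0 : ∀ e : F, α e = ψ (2 * D.c * 1 * e) - (if e = 0 then 1 else 0) := fun e => by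
    by_cases he : e = 0
    · subst he; simp [α]
    · simp [α, he]
  have hα : ∑ e : F, α e = -1 := by
    simp only [h0, Finset.sum_sub_distrib, Finset.sum_ite_eq', Finset.mem_univ, if_true]
    rw [Finset.sum_congr rfl fun e _ => show ψ (2 * D.c * 1 * e) = ψ (2 * D.c * e * 1) by congr 1; ring,
      sum_orth D.h2 D.hc, if_neg one_ne_zero, zero_sub]
  have hβ : ∀ d : F, ∑ e : F, α e * ψ (2 * D.c * e * d) = (if d = -1 then (Fintype.card F : ℂ) else 0) - 1 := by
    intro d
    simp only [h0, sub_mul, Finset.sum_sub_distrib, ite_mul, one_mul, zero_mul, Finset.sum_ite_eq', Finset.mem_univ,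
      if_true, mul_zero, AddChar.map_zero_eq_one]
    congr 1
    rw [Finset.sum_congr rfl fun e _ => show ψ (2 * D.c * 1 * e) * ψ (2 * D.c * e * d) = ψ (2 * D.c * e * (d + 1)) by
      rw [← AddChar.map_add_eq_mul]; congr 1; ring, sum_orth D.h2 D.hc]
    simp only [add_eq_zero_iff_eq_neg]
  rw [map_smul, map_add, map_sum] at h'
  simp only [map_smul] at h'
  rw [hX, hα, Finset.sum_congr rfl fun d _ => by rw [hβ d]] at h'
  simp only [sub_smul, ite_smul, zero_smul, one_smul, Finset.sum_sub_distrib, Finset.sum_ite_eq', Finset.mem_univ,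
    if_true] at h'
  rw [← D.γ_sq] at h'
  refine smul_right_injective V D.γ_ne ?_
  show D.γ • ρ (sw i) D.u = D.γ • D.γ • (D.u + ∑ e : F, D.w (Pi.single i e))
  linear_combination (norm := module) -h'

theorem u_dS (k : Fin n) (α : F) : ρ (sieg (dS k α)) D.u = D.u := by
  obtain ⟨i, hi⟩ := D.other k
  have hcom : sw i * sieg (dS k α) = sieg (dS k α) * sw i := sw_sieg_comm i _ fun m => by
    show diagonal (fun l => if l = k then α else 0) i m = 0
    simp [diagonal_apply, hi]
  have hfix : ∀ e : F, ρ (sieg (dS k α)) (D.w (Pi.single i e)) = D.w (Pi.single i e) := fun e => by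
    rw [D.w_eigv, rk1_dS, Pi.single_eq_of_ne hi.symm]; simp
  rw [← D.Rv_u i one_ne_zero, Rv, map_sub, map_smul, map_sum, ← Module.End.mul_apply (ρ (sieg (dS k α))), ← map_mul,
    ← hcom, map_mul, Module.End.mul_apply, hfix]
  simp only [map_smul, hfix]

theorem u_eigv : Eigv ρ 0 D.u := by
  have h : ∀ l, l ≠ 0 → pr ρ l D.u = 0 := by
    intro l hl
    by_contra hne
    obtain ⟨c', z, rfl⟩ := D.hlow l fun h0 => hne (by rw [h0]; rfl)
    obtain ⟨k, hk⟩ := Function.ne_iff.1 (fun h0 : z = 0 => hl (by rw [h0, rk1_zero]))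
    have hc' : c' ≠ 0 := fun h0 => hl (LinearMap.ext fun S => by rw [rk1_apply, h0, zero_mul]; rfl)
    refine hne (pr_zero_of ρ (fun S => ∃ α, S = dS k α) ?_ 0 ?_ ⟨1, rfl⟩ ?_)
    · rintro t S ⟨α, rfl⟩
      refine ⟨t * α, Subtype.ext ?_⟩
      show t • diagonal _ = diagonal _
      rw [← diagonal_smul]
      congr 1
      funext l
      by_cases hl : l = k <;> simp [hl]
    · rintro S ⟨α, rfl⟩
      rw [D.u_dS, LinearMap.zero_apply, AddChar.map_zero_eq_one, one_smul]
    · rw [rk1_dS, LinearMap.zero_apply]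
      exact mul_ne_zero (mul_ne_zero hc' one_ne_zero) (pow_ne_zero _ hk)
  have e : D.u = pr ρ 0 D.u := by
    conv_lhs => rw [← sum_pr ρ D.u]
    exact Finset.sum_eq_single 0 (fun l _ hl => h l hl) (by simp)
  rw [e]
  exact pr_eigv ρ _ _

theorem u_levi (g : GL (Fin n) F) : ρ (levi g) D.u = chi g.1.det • D.u := by
  refine gl_induct (fun g => ρ (levi g) D.u = chi g.1.det • D.u) ?_ (fun g h hg hh => ?_) (fun k r => ?_)
    (fun p q hpq μ => ?_) g
  · rw [levi_one, map_one, Units.val_one, det_one, chi_one, one_smul, Module.End.one_apply]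
  · rw [levi_mul, map_mul, Module.End.mul_apply, hh, map_smul, hg, smul_smul, chi_det_mul, mul_comm]
  · obtain ⟨i, hi⟩ := D.other k
    have hw : ∀ e : F, ρ (levi (dd k r)) (D.w (Pi.single i e)) = chi (r : F) • D.w (Pi.single i e) := fun e => by
      rw [D.w_levi, det_dd, act_dd, Pi.single_eq_of_ne hi.symm, mul_zero,
        show Function.update (Pi.single i e : Fin n → F) k 0 = Pi.single i e from by simp [hi.symm]]
    rw [det_dd, ← D.Rv_u i one_ne_zero, Rv, map_sub, map_smul, map_sum, ← Module.End.mul_apply (ρ (levi (dd k r))),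
      ← map_mul, ← sw_levi_dd i k hi, map_mul, Module.End.mul_apply, hw, map_smul]
    simp only [map_smul, hw, smul_sub, Finset.smul_sum]
    congr 1
    · rw [smul_comm]
    · exact Finset.sum_congr rfl fun e _ => smul_comm _ _ _
  · have hw : ∀ e : F, ρ (levi (tr p q hpq μ)) (D.w (Pi.single q e)) = D.w (Pi.single q e) := fun e => by
      rw [D.w_levi, det_tr, chi_one, one_smul, act_tr, Pi.single_eq_of_ne hpq, mul_zero, sub_zero,
        Function.update_eq_self]
    rw [det_tr, chi_one, one_smul, ← D.Rv_u q one_ne_zero, Rv, map_sub, map_smul, map_sum,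
      ← Module.End.mul_apply (ρ (levi (tr p q hpq μ))), ← map_mul, ← sw_cS q p hpq.symm μ, map_mul,
      Module.End.mul_apply, D.w_eigv, rk1_cS, Pi.single_eq_of_ne hpq]
    simp only [mul_zero, AddChar.map_zero_eq_one, one_smul, map_smul, hw]

open Classical in
/-- The full family of vectors. -/
noncomputable def wu (y : Fin n → F) : V := D.w y + if y = 0 then D.u else 0

theorem wu_of_ne {y : Fin n → F} (hy : y ≠ 0) : D.wu y = D.w y := by rw [wu, if_neg hy, add_zero]

theorem wu_zero : D.wu 0 = D.u := by rw [wu, if_pos rfl, w_zero, zero_add]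

theorem wu_levi (h : GL (Fin n) F) (y : Fin n → F) : ρ (levi h) (D.wu y) = chi h.1.det • D.wu (act h y) := by
  by_cases hy : y = 0
  · subst hy; rw [act_zero, wu_zero, u_levi]
  · rw [D.wu_of_ne hy, D.wu_of_ne (act_ne h hy), w_levi]

theorem wu_eigv (y : Fin n → F) : Eigv ρ (rk1 D.c y) (D.wu y) := by
  by_cases hy : y = 0
  · subst hy; rw [wu_zero, rk1_zero]; exact D.u_eigv
  · rw [D.wu_of_ne hy]; exact D.w_eigv y

theorem wu_single (i : Fin n) (e : F) : D.wu (Pi.single i e) = D.w (Pi.single i e) + if e = 0 then D.u else 0 := by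
  rw [wu]
  congr 1
  by_cases he : e = 0
  · subst he; rw [Pi.single_zero, if_pos rfl, if_pos rfl]
  · rw [if_neg he, if_neg fun h => he (by simpa using congrFun h i)]

theorem wu_sw (i : Fin n) (y : Fin n → F) :
    ρ (sw i) (D.wu y) = D.γ • ∑ b : F, ψ (2 * D.c * y i * b) • D.wu (Function.update y i b) := by
  by_cases hy : ∃ j, j ≠ i ∧ y j ≠ 0
  · obtain ⟨j, hji, hyj⟩ := hy
    rw [D.wu_of_ne fun h => hyj (congrFun h j), D.sw_w_off hji hyj]
    congr 1
    refine Finset.sum_congr rfl fun b _ => ?_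
    rw [D.wu_of_ne fun h => hyj (by have := congrFun h j; rwa [Function.update_of_ne hji] at this)]
  · push Not at hy
    have e : y = Pi.single i (y i) := funext fun k => by
      by_cases hk : k = i
      · subst hk; simp
      · simp [hk, hy k hk]
    generalize y i = a at e
    subst e
    have hu : ∀ b : F, Function.update (Pi.single i a : Fin n → F) i b = Pi.single i b := fun b =>
      funext fun k => by by_cases hk : k = i <;> simp [hk]
    simp only [hu, Pi.single_eq_same, D.wu_single, smul_add, smul_ite, smul_zero, Finset.sum_add_distrib,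
      Finset.sum_ite_eq', Finset.mem_univ, if_true, mul_zero, AddChar.map_zero_eq_one, one_smul]
    by_cases ha : a = 0
    · subst ha
      rw [if_pos rfl, Pi.single_zero, w_zero, zero_add, D.sw_u, add_comm D.u, smul_add]
      simp only [mul_zero, zero_mul, AddChar.map_zero_eq_one, one_smul]
    · rw [if_neg ha, add_zero, D.sw_axis, D.Rv_u i ha, add_comm D.u, smul_add]

end Dat

end CfsgLib.SympWeil
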