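import Mathlib
import Cfsg.Agent.Lib.SympWeil.Class.Model

/-! The model of a representation with rank one spectrum, and uniqueness. -/

set_option autoImplicit false
set_option linter.unusedSectionVars false
set_option maxHeartbeats 800000

namespace CfsgLib.SympWeil

open Matrix Module

variable {F : Type*} [Field F] [Fintype F] [DecidableEq F] {n : ℕ}
variable {V : Type*} [AddCommGroup V] [Module ℂ V]

/-- The Levi action on the model. -/
noncomputable def Mlevi (h : GL (Fin n) F) (f : W F n) : W F n := fun y => chi h.1.det * f (h.1ᵀ *ᵥ y)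

/-- The radical action on the model. -/
noncomputable def Msieg (c : F) (S : Sym F n) (f : W F n) : W F n := fun y => ψ (rk1 c y S) * f y

/-- The partial Fourier action on the model. -/
noncomputable def Msw (c : F) (i : Fin n) (f : W F n) : W F n := fun z =>
  gam c * ∑ b : F, ψ (2 * c * b * z i) * f (Function.update z i b)

/-- A model of a representation. -/
structure IsModel (c : F) (ε : ℂ) (ρ : Representation ℂ (Matrix.symplecticGroup (Fin n) F) V)
    (π : W F n →ₗ[ℂ] V) : Prop where
  eps : ε = 1 ∨ ε = -1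
  surj : Function.Surjective π
  ker : ∀ f, π f = 0 ↔ f + ε • P f = 0
  on_levi : ∀ h f, ρ (levi h) (π f) = π (Mlevi h f)
  on_sieg : ∀ S f, ρ (sieg S) (π f) = π (Msieg c S f)
  on_sw : ∀ i f, ρ (sw i) (π f) = π (Msw c i f)

namespace Dat

variable {ρ : Representation ℂ (Matrix.symplecticGroup (Fin n) F) V} (D : Dat ρ)

/-- The map from the model. -/
noncomputable def π : W F n →ₗ[ℂ] V where
  toFun f := ∑ y, f y • D.wu y
  map_add' f g := by simp only [Pi.add_apply, add_smul, Finset.sum_add_distrib]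
  map_smul' a f := by simp only [Pi.smul_apply, smul_eq_mul, RingHom.id_apply, Finset.smul_sum, smul_smul]

theorem π_apply (f : W F n) : D.π f = ∑ y, f y • D.wu y := rfl

theorem π_single (y : Fin n → F) : D.π (Pi.single y 1) = D.wu y := by
  classical
  rw [π_apply, Finset.sum_eq_single y (fun z _ hz => by rw [Pi.single_eq_of_ne hz, zero_smul]) (by simp),
    Pi.single_eq_same, one_smul]

theorem π_levi (h : GL (Fin n) F) (f : W F n) : ρ (levi h) (D.π f) = D.π (Mlevi h f) := by
  simp only [π_apply, map_sum, map_smul, D.wu_levi, smul_smul]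
  refine Fintype.sum_equiv ⟨act h, fun y => h.1ᵀ *ᵥ y, trans_act h, act_trans h⟩ _ _ fun y => ?_
  show _ = (chi h.1.det * f (h.1ᵀ *ᵥ act h y)) • D.wu (act h y)
  rw [trans_act, mul_comm]

theorem π_sieg (S : Sym F n) (f : W F n) : ρ (sieg S) (D.π f) = D.π (Msieg D.c S f) := by
  simp only [π_apply, map_sum, map_smul]
  refine Finset.sum_congr rfl fun y _ => ?_
  rw [D.wu_eigv y S, smul_smul, Msieg, mul_comm]

theorem π_sw (i : Fin n) (f : W F n) : ρ (sw i) (D.π f) = D.π (Msw D.c i f) := by
  simp only [π_apply, map_sum, map_smul, D.wu_sw, Msw, Finset.smul_sum, Finset.mul_sum, Finset.sum_smul, smul_smul]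
  rw [← Fintype.sum_prod_type', ← Fintype.sum_prod_type']
  have hinv : ∀ p : (Fin n → F) × F,
      (Function.update (Function.update p.1 i p.2) i (p.1 i), Function.update p.1 i p.2 i) = p := by
    rintro ⟨y, b⟩
    simp [Function.update_idem]
  let E : (Fin n → F) × F ≃ (Fin n → F) × F :=
    ⟨fun p => (Function.update p.1 i p.2, p.1 i), fun p => (Function.update p.1 i p.2, p.1 i), hinv, hinv⟩
  refine Fintype.sum_equiv E _ _ fun p => ?_
  rcases p with ⟨y, b⟩
  simp only [E, Equiv.coe_fn_mk, Function.update_self, Function.update_idem, Function.update_eq_self]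
  congr 1
  show _ = _
  simp only [γ]
  ring_nf

theorem range_inv (g : Matrix.symplecticGroup (Fin n) F) :
    ∀ v ∈ LinearMap.range D.π, ρ g v ∈ LinearMap.range D.π := by
  refine gens_induct D.i₀ (fun g => ∀ v ∈ LinearMap.range D.π, ρ g v ∈ LinearMap.range D.π) ?_ ?_ ?_ g
  · rintro g ((⟨h, rfl⟩ | ⟨S, rfl⟩) | ⟨i, rfl⟩) _ ⟨f, rfl⟩
    · exact ⟨_, (D.π_levi h f).symm⟩
    · exact ⟨_, (D.π_sieg S f).symm⟩
    · exact ⟨_, (D.π_sw i f).symm⟩
  · intro v hv; rwa [map_one, Module.End.one_apply]
  · intro a b ha hb v hv; rw [map_mul, Module.End.mul_apply]; exact ha _ (hb v hv)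

theorem π_surj : Function.Surjective D.π := by
  haveI : IsSimpleOrder (Subrepresentation ρ) := D.irr
  let U : Subrepresentation ρ := ⟨LinearMap.range D.π, fun g v hv => D.range_inv g v hv⟩
  rcases IsSimpleOrder.eq_bot_or_eq_top U with h | h
  · exfalso
    have h' : LinearMap.range D.π = ⊥ := congrArg Subrepresentation.toSubmodule h
    have := LinearMap.mem_range_self D.π (Pi.single D.x0 1)
    rw [h', Submodule.mem_bot, π_single, D.wu_of_ne D.x0_ne] at this
    exact D.w_ne D.x0_ne this
  · exact LinearMap.range_eq_top.1 (congrArg Subrepresentation.toSubmodule h)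

include D in
theorem exists_eps : ∃ ε : ℂ, (ε = 1 ∨ ε = -1) ∧
    ∀ x : V, ρ (levi (-1 : GL (Fin n) F)) x = (ε * chi (-1 : GL (Fin n) F).1.det) • x := by
  haveI := D.fd
  haveI : Nontrivial V := ⟨⟨D.v0, 0, D.hv0⟩⟩
  haveI : IsSimpleOrder (Subrepresentation ρ) := D.irr
  set z : Matrix.symplecticGroup (Fin n) F := levi (-1 : GL (Fin n) F) with hz
  have hz1 : ∀ x : V2 F n, z.1 *ᵥ x = -x := fun x => by
    rw [hz, levi_apply, inv_neg, inv_one]
    funext k
    rcases k with k | k <;> simp [fs, sn, neg_mulVec]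
  have hcomm : ∀ g : Matrix.symplecticGroup (Fin n) F, g * z = z * g := fun g => ext_act fun x => by
    rw [SympGen.mul_apply, SympGen.mul_apply, hz1, hz1, mulVec_neg]
  have hzz : z * z = 1 := ext_act fun x => by
    rw [SympGen.mul_apply, hz1, hz1, neg_neg, SympGen.one_apply]
  obtain ⟨e, he⟩ := Module.End.exists_eigenvalue (ρ z)
  let U : Subrepresentation ρ := ⟨Module.End.eigenspace (ρ z) e, fun g v hv => by
    rw [Module.End.mem_eigenspace_iff] at hv ⊢
    rw [← Module.End.mul_apply, ← map_mul, ← hcomm, map_mul, Module.End.mul_apply, hv, map_smul]⟩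
  have htop : ∀ x : V, ρ z x = e • x := by
    rcases IsSimpleOrder.eq_bot_or_eq_top U with h | h
    · exact absurd (congrArg Subrepresentation.toSubmodule h) he
    · intro x
      have : x ∈ U.toSubmodule := by rw [h]; exact Submodule.mem_top
      exact Module.End.mem_eigenspace_iff.1 this
  have he2 : e * e = 1 := by
    refine smul_left_injective ℂ D.hv0 ?_
    show (e * e) • D.v0 = (1 : ℂ) • D.v0
    rw [← smul_smul, ← htop (e • D.v0), ← htop D.v0, ← Module.End.mul_apply, ← map_mul, hzz, map_one,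
      Module.End.one_apply, one_smul]
  have hs := chi_det_sq (-1 : GL (Fin n) F)
  refine ⟨e * chi (-1 : GL (Fin n) F).1.det, mul_self_eq_one_iff.1 ?_, fun x => ?_⟩
  · linear_combination hs * (e * e) + he2
  · rw [htop, mul_assoc, hs, mul_one]

/-- The parity. -/
noncomputable def ε : ℂ := D.exists_eps.choose

theorem ε_cases : D.ε = 1 ∨ D.ε = -1 := D.exists_eps.choose_spec.1

theorem ε_sq : D.ε * D.ε = 1 := by rcases D.ε_cases with h | h <;> rw [h] <;> norm_num

theorem wu_neg (y : Fin n → F) : D.wu (-y) = D.ε • D.wu y := by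
  have h := D.wu_levi (-1) y
  rw [D.exists_eps.choose_spec.2, mul_smul] at h
  have hact : act (-1 : GL (Fin n) F) y = -y := by
    rw [act, inv_neg, inv_one, Units.val_neg, Units.val_one, transpose_neg, transpose_one, neg_mulVec, one_mulVec]
  rw [hact, smul_comm] at h
  have hne : chi (-1 : GL (Fin n) F).1.det ≠ 0 := fun h0 => by
    have := chi_det_sq (-1 : GL (Fin n) F)
    rw [h0, zero_mul] at this
    exact zero_ne_one this
  exact (smul_right_injective V hne h).symm

theorem u_ne (hε : D.ε = 1) : D.u ≠ 0 := by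
  classical
  intro hu
  have h := D.sw_u D.i₀
  rw [hu, map_zero, zero_add] at h
  have h' := congrArg (pr ρ (rk1 D.c D.x0)) (smul_right_injective V D.γ_ne (h.symm.trans (smul_zero _).symm))
  rw [map_zero, map_sum] at h'
  have hne1 : (-1 : F) ≠ 1 := fun h => D.h2 (by linear_combination -h)
  rw [Finset.sum_eq_add (1 : F) (-1) hne1.symm] at h'
  · rw [show (Pi.single D.i₀ (-1) : Fin n → F) = -D.x0 from by rw [x0, ← Pi.single_neg],
      show (Pi.single D.i₀ 1 : Fin n → F) = D.x0 from rfl, ← D.wu_of_ne D.x0_ne,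
      ← D.wu_of_ne (neg_ne_zero.2 D.x0_ne), D.wu_neg, hε, one_smul, pr_self ρ (D.wu_eigv _), ← two_smul ℂ] at h'
    rw [D.wu_of_ne D.x0_ne] at h'
    exact D.w_ne D.x0_ne ((smul_eq_zero.1 h').resolve_left two_ne_zero)
  · intro e _ he
    refine pr_ne ρ (D.w_eigv _) fun hrk => ?_
    rcases rk1_eq_same D.h2 D.hc D.x0_ne hrk with h | h
    · exact he.1 (by simpa [x0] using congrFun h D.i₀)
    · exact he.2 (by simpa [x0] using congrFun h D.i₀)
  · simp
  · simp

theorem π_ker (f : W F n) : D.π f = 0 ↔ f + D.ε • P f = 0 := by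
  classical
  have hsym : D.π (D.ε • P f) = D.π f := by
    simp only [π_apply]
    refine Fintype.sum_equiv (Equiv.neg _) _ _ fun y => ?_
    show (D.ε * f (-y)) • D.wu y = f (-y) • D.wu (-y)
    rw [wu_neg, smul_smul, mul_comm]
  constructor
  · intro h
    have hnz : ∀ z : Fin n → F, z ≠ 0 → f z + D.ε * f (-z) = 0 := by
      intro z hz
      have h' := congrArg (pr ρ (rk1 D.c z)) h
      rw [π_apply, map_zero, map_sum] at h'
      simp only [map_smul] at h'
      have hne : z ≠ -z := fun e => hz (funext fun k => by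
        have h0 : (2 : F) * z k = 0 := by
          have := congrFun e k
          rw [Pi.neg_apply] at this
          linear_combination this
        exact (mul_eq_zero.1 h0).resolve_left D.h2)
      rw [Finset.sum_eq_add z (-z) hne] at h'
      · rw [D.wu_neg, map_smul, pr_self ρ (D.wu_eigv z), smul_smul, ← add_smul, mul_comm] at h'
        refine (smul_eq_zero.1 h').resolve_right ?_
        rw [D.wu_of_ne hz]; exact D.w_ne hz
      · intro y _ hy
        rw [pr_ne ρ (D.wu_eigv y) fun hrk => (rk1_eq_same D.h2 D.hc hz hrk).elim hy.1 hy.2, smul_zero]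
      · simp
      · simp
    funext z
    show f z + D.ε * f (-z) = 0
    by_cases hz : z = 0
    · subst hz
      rw [neg_zero]
      rcases D.ε_cases with hε | hε
      · have h' : D.π (f + D.ε • P f) = 0 := by rw [map_add, hsym, h, add_zero]
        rw [π_apply, Finset.sum_eq_single 0 (fun y _ hy => by
          show (f y + D.ε * f (-y)) • _ = 0
          rw [hnz y hy, zero_smul]) (by simp), wu_zero] at h'
        refine (smul_eq_zero.1 ?_).resolve_right (D.u_ne hε)
        have e : (f + D.ε • P f) 0 = f 0 + D.ε * f (-0) := rfl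
        rw [e, neg_zero] at h'
        exact h'
      · rw [hε]; ring
    · exact hnz z hz
  · intro h
    have h' := congrArg D.π h
    rw [map_add, hsym, map_zero, ← two_smul ℂ] at h'
    exact (smul_eq_zero.1 h').resolve_left two_ne_zero

theorem isModel : IsModel D.c D.ε ρ D.π :=
  ⟨D.ε_cases, D.π_surj, D.π_ker, D.π_levi, D.π_sieg, D.π_sw⟩

theorem occurs_label {l : Sym F n →ₗ[F] F} (hl : Occurs ρ l) : ∃ z, l = rk1 D.c z := by
  by_contra h
  push Not at h
  refine hl (LinearMap.ext fun x => ?_)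
  obtain ⟨f, rfl⟩ := D.π_surj x
  rw [D.π_apply, map_sum, LinearMap.zero_apply]
  refine Finset.sum_eq_zero fun y _ => ?_
  rw [map_smul]
  rw [pr_ne ρ (D.wu_eigv y) (h y), smul_zero]

end Dat

theorem IsModel.finrank_eq [FiniteDimensional ℂ V] {c : F} {ε : ℂ} {ρ : Representation ℂ (Matrix.symplecticGroup (Fin n) F) V}
    {π : W F n →ₗ[ℂ] V} (M : IsModel c ε ρ π) (h2 : (2 : F) ≠ 0) :
    (2 : ℂ) * finrank ℂ V = (Fintype.card F : ℂ) ^ n + ε := by
  have hε : ε * ε = 1 := by rcases M.eps with h | h <;> rw [h] <;> norm_num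
  have hk : LinearMap.ker π = (Wpar (-ε) : Submodule ℂ (W F n)) := by
    ext f
    rw [LinearMap.mem_ker, M.ker, mem_Wpar]
    constructor
    · intro h
      have := congrArg (ε • ·) h
      simp only [smul_add, smul_smul, hε, one_smul, smul_zero] at this
      rw [neg_smul]
      exact eq_neg_of_add_eq_zero_right this
    · intro h
      rw [h, smul_smul, mul_neg, hε, neg_smul, one_smul, add_neg_cancel]
  have h1 := LinearMap.finrank_range_add_finrank_ker π
  rw [LinearMap.range_eq_top.2 M.surj, finrank_top, hk, Module.finrank_fintype_fun_eq_card, Fintype.card_fun,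
    Fintype.card_fin] at h1
  have h2' := finrank_Wpar (n := n) h2 (-ε) (by rw [neg_mul_neg, hε])
  have h1' := congrArg (Nat.cast : ℕ → ℂ) h1
  push_cast at h1'
  linear_combination 2 * h1' - h2'

theorem IsModel.character_eq [FiniteDimensional ℂ V] {V' : Type*} [AddCommGroup V'] [Module ℂ V']
    [FiniteDimensional ℂ V'] {c : F} {ε : ℂ} {ρ : Representation ℂ (Matrix.symplecticGroup (Fin n) F) V}
    {ρ' : Representation ℂ (Matrix.symplecticGroup (Fin n) F) V'} {π : W F n →ₗ[ℂ] V} {π' : W F n →ₗ[ℂ] V'}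
    (M : IsModel c ε ρ π) (M' : IsModel c ε ρ' π') (i : Fin n) : ρ.character = ρ'.character := by
  obtain ⟨s, hs⟩ := LinearMap.exists_rightInverse_of_surjective π (LinearMap.range_eq_top.2 M.surj)
  have hΦ : ∀ f, π' (s (π f)) = π' f := fun f => by
    rw [← sub_eq_zero, ← map_sub, M'.ker, ← M.ker, map_sub, show π (s (π f)) = π f from LinearMap.congr_fun hs (π f),
      sub_self]
  let Φ : V →ₗ[ℂ] V' := π' ∘ₗ s
  have hbij : Function.Bijective Φ := by
    constructor
    · intro a b hab
      obtain ⟨f, rfl⟩ := M.surj a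
      obtain ⟨g, rfl⟩ := M.surj b
      have e : π' f = π' g := by rw [← hΦ f, ← hΦ g]; exact hab
      rw [← sub_eq_zero, ← map_sub, M.ker, ← M'.ker, map_sub, e, sub_self]
    · intro b
      obtain ⟨f, rfl⟩ := M'.surj b
      exact ⟨π f, hΦ f⟩
  let e := LinearEquiv.ofBijective Φ hbij
  have hint : ∀ g, ∀ v, Φ (ρ g v) = ρ' g (Φ v) := by
    refine gens_induct i _ ?_ (fun v => by rw [map_one, map_one]; rfl)
      (fun a b ha hb v => by rw [map_mul, map_mul, Module.End.mul_apply, Module.End.mul_apply, ha, hb])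
    rintro g ((⟨h, rfl⟩ | ⟨S, rfl⟩) | ⟨k, rfl⟩) v <;> obtain ⟨f, rfl⟩ := M.surj v <;>
      show π' (s _) = ρ' _ (π' (s (π f)))
    · rw [M.on_levi, hΦ, hΦ, M'.on_levi]
    · rw [M.on_sieg, hΦ, hΦ, M'.on_sieg]
    · rw [M.on_sw, hΦ, hΦ, M'.on_sw]
  funext g
  have : e.conj (ρ g) = ρ' g := LinearMap.ext fun v => by
    show e (ρ g (e.symm v)) = ρ' g v
    rw [show e (ρ g (e.symm v)) = Φ (ρ g (e.symm v)) from rfl, hint]
    exact congrArg (ρ' g) (e.apply_symm_apply v)
  rw [Representation.character, Representation.character, ← this, LinearMap.trace_conj']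

end CfsgLib.SympWeil
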