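import Mathlib
import Cfsg.Agent.Lib.SympWeil.Class.Unique

/-! Existence of the Weil representations, and the twist by a similitude. -/

set_option autoImplicit false
set_option linter.unusedSectionVars false
set_option maxHeartbeats 1600000

namespace CfsgLib.SympWeil

open Matrix Module

variable {F : Type*} [Field F] [Fintype F] [DecidableEq F] {n : ℕ} (h2 : (2 : F) ≠ 0)

/-- The Weil representation of either parity. -/
noncomputable def weilP (ε : ℂ) :
    Representation ℂ (Matrix.symplecticGroup (Fin n) F) (Wpar ε : Submodule ℂ (W F n)) where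
  toFun g := (R h2 g).restrict (fun f hf => Submodule.smul_mem _ _ (T_mem h2 g ε f hf))
  map_one' := LinearMap.ext fun f => Subtype.ext (by
    show R h2 1 (f : W F n) = (f : W F n)
    rw [R_one]; rfl)
  map_mul' g h := LinearMap.ext fun f => Subtype.ext (by
    show R h2 (g * h) f = R h2 g (R h2 h f)
    rw [← R_mul]; rfl)

include h2 in
/-- Irreducibility of the two Weil representations. -/
theorem weilP_irreducible (hn : 2 ≤ n) {ε : ℂ} (hε : ε = 1 ∨ ε = -1) : (weilP (F := F) (n := n) h2 ε).IsIrreducible := by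
  have hεε : ε * ε = 1 := by rcases hε with rfl | rfl <;> norm_num
  classical
  have hq : 1 < Fintype.card F := Fintype.one_lt_card
  haveI : Nontrivial (Subrepresentation (weilP (F := F) (n := n) h2 ε)) := by
    refine ⟨⟨⊥, ⊤, fun h => ?_⟩⟩
    have h' := congrArg Subrepresentation.toSubmodule h
    have hd : finrank ℂ (Wpar ε : Submodule ℂ (W F n)) = 0 := by
      have : (⊥ : Submodule ℂ (Wpar ε : Submodule ℂ (W F n))) = ⊤ := h'
      rw [← finrank_top, ← this, finrank_bot]
    have e := finrank_Wpar (n := n) h2 ε hεε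
    rw [hd, Nat.cast_zero, mul_zero] at e
    have : ((Fintype.card F ^ n * Fintype.card F ^ n : ℕ) : ℂ) = ((1 : ℕ) : ℂ) := by
      push_cast; linear_combination hεε + (ε - (Fintype.card F : ℂ) ^ n) * e
    exact absurd (Nat.cast_injective this)
      (Nat.one_lt_mul_iff.2 ⟨by positivity, by positivity, Or.inl (Nat.one_lt_pow (by omega) hq)⟩).ne'
  refine ⟨fun U => ?_⟩
  by_cases hU : U.toSubmodule = ⊥
  · exact Or.inl (Subrepresentation.ext hU)
  right
  set U' : Submodule ℂ (W F n) := U.toSubmodule.map (Wpar ε : Submodule ℂ (W F n)).subtype with hU'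
  have hU'R : ∀ g, ∀ f ∈ U', R h2 g f ∈ U' := by
    rintro g _ ⟨f, hf, rfl⟩
    exact ⟨_, U.apply_mem_toSubmodule g hf, rfl⟩
  obtain ⟨π, hπ⟩ := LinearMap.exists_leftInverse_of_injective U'.subtype U'.ker_subtype
  set G := Matrix.symplecticGroup (Fin n) F
  haveI : Fintype G := Fintype.ofFinite _
  set E0 : Module.End ℂ (W F n) := U'.subtype ∘ₗ π
  set E : Module.End ℂ (W F n) := (Fintype.card G : ℂ)⁻¹ • ∑ g : G, R h2 g * E0 * R h2 g⁻¹ with hE
  have hEinv : ∀ h : G, R h2 h * E = E * R h2 h := fun h => by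
    rw [hE, mul_smul_comm, smul_mul_assoc, Finset.mul_sum, Finset.sum_mul]
    congr 1
    refine Fintype.sum_equiv (Equiv.mulLeft h) _ _ fun g => ?_
    show R h2 h * (R h2 g * E0 * R h2 g⁻¹) = R h2 (h * g) * E0 * R h2 (h * g)⁻¹ * R h2 h
    rw [mul_assoc _ (R h2 (h * g)⁻¹), R_mul, _root_.mul_inv_rev, inv_mul_cancel_right, ← R_mul h2 h g]
    noncomm_ring
  have hEU : ∀ f ∈ U', E f = f := by
    intro f hf
    rw [hE, LinearMap.smul_apply, LinearMap.sum_apply, Finset.sum_eq_card_nsmul (b := f) (fun g _ => ?_),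
      Finset.card_univ, ← Nat.cast_smul_eq_nsmul ℂ, inv_smul_smul₀ (Nat.cast_ne_zero.2 Fintype.card_ne_zero)]
    show R h2 g (E0 (R h2 g⁻¹ f)) = f
    rw [show E0 (R h2 g⁻¹ f) = R h2 g⁻¹ f from
      congrArg Subtype.val (LinearMap.congr_fun hπ ⟨_, hU'R g⁻¹ f hf⟩), ← Module.End.mul_apply, R_mul,
      mul_inv_cancel, R_one, Module.End.one_apply]
  have hEim : ∀ f, E f ∈ U' := by
    intro f
    rw [hE, LinearMap.smul_apply, LinearMap.sum_apply]
    exact Submodule.smul_mem _ _ (Submodule.sum_mem _ fun g _ => hU'R g _ (π _).2)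
  set c := bD.repr E with hc
  have hinv : ∀ (g : G) v, c (g.1 *ᵥ v) = c v := by
    intro g v
    have h1 : R h2 g * E * R h2 g⁻¹ = E := by rw [hEinv, mul_assoc, R_mul, mul_inv_cancel, R_one, mul_one]
    have h3 : ∀ w, R h2 g * D w * R h2 g⁻¹ = D (g.1 *ᵥ w) := fun w => by
      rw [R_D, mul_assoc, R_mul, mul_inv_cancel, R_one, mul_one]
    have hginj : Function.Injective fun w : V2 F n => g.1 *ᵥ w :=
      Matrix.mulVec_injective_of_isUnit ⟨⟨g.1, (g⁻¹).1, congrArg Subtype.val (mul_inv_cancel g),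
        congrArg Subtype.val (inv_mul_cancel g)⟩, rfl⟩
    conv_lhs => rw [hc, ← h1, ← bD.sum_repr E]
    simp only [Finset.mul_sum, Finset.sum_mul, mul_smul_comm, smul_mul_assoc, bD_apply, h3]
    simp only [map_sum, map_smul, Finsupp.finset_sum_apply, Finsupp.smul_apply, ← bD_apply, Basis.repr_self,
      Finsupp.single_apply, smul_eq_mul, mul_ite, mul_one, mul_zero, hginj.eq_iff, Finset.sum_ite_eq',
      Finset.mem_univ, if_true]
    rfl
  obtain ⟨β, hβ⟩ : ∃ β, ∀ v, v ≠ 0 → c v = β := by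
    by_cases h : ∃ v : V2 F n, v ≠ 0
    · obtain ⟨v0, hv0⟩ := h
      refine ⟨c v0, fun v hv => ?_⟩
      obtain ⟨g, hg⟩ := SympTransvection.transitive hv0 hv
      rw [← hg, hinv]
    · exact ⟨0, fun v hv => absurd ⟨v, hv⟩ h⟩
  obtain ⟨t, ht⟩ := sum_D (n := n) h2
  have hE' : E = (c 0 - β) • 1 + (β * t) • P := by
    rw [mul_smul β t, ← ht, ← D_zero, Finset.smul_sum]
    conv_lhs => rw [← bD.sum_repr E]
    simp only [bD_apply, ← hc]
    rw [← Finset.add_sum_erase _ _ (Finset.mem_univ (0 : V2 F n)),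
      ← Finset.add_sum_erase _ _ (Finset.mem_univ (0 : V2 F n)), ← add_assoc, ← add_smul, sub_add_cancel]
    refine congrArg _ (Finset.sum_congr rfl fun v hv => ?_)
    rw [hβ v (Finset.ne_of_mem_erase hv)]
  have hsc : ∀ f ∈ (Wpar ε : Submodule ℂ (W F n)), E f = (c 0 - β + β * t * ε) • f := fun f hf => by
    rw [mem_Wpar] at hf
    rw [hE', LinearMap.add_apply, LinearMap.smul_apply, LinearMap.smul_apply, Module.End.one_apply, hf, smul_smul,
      ← add_smul]
  obtain ⟨u, huU, hu0⟩ := Submodule.exists_mem_ne_zero_of_ne_bot hU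
  have hs : c 0 - β + β * t * ε = 1 := by
    have h1 := hsc _ u.2
    rw [hEU (u : W F n) ⟨u, huU, rfl⟩] at h1
    by_contra hne
    have : ((c 0 - β + β * t * ε) - 1) • (u : W F n) = 0 := by rw [sub_smul, one_smul, ← h1, sub_self]
    exact hu0 (Subtype.ext ((smul_eq_zero.1 this).resolve_left (sub_ne_zero.2 hne)))
  refine Subrepresentation.ext (eq_top_iff.2 fun f _ => ?_)
  have h1 := hEim (f : W F n)
  rw [hsc _ f.2, hs, one_smul] at h1
  obtain ⟨f', hf', e⟩ := h1
  rwa [Subtype.ext e] at hf'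


include h2 in
theorem exists_weilP (hn : 2 ≤ n) {ε : ℂ} (hε : ε = 1 ∨ ε = -1) :
    ∃ (d : ℕ) (ρ : Representation ℂ (Matrix.symplecticGroup (Fin n) F) (Fin d → ℂ)),
      ρ.IsIrreducible ∧ (2 : ℂ) * (d : ℂ) = (Fintype.card F : ℂ) ^ n + ε := by
  let Wε := (Wpar ε : Submodule ℂ (W F n))
  let d := finrank ℂ Wε
  let e : Wε ≃ₗ[ℂ] (Fin d → ℂ) := (Module.finBasis ℂ Wε).equivFun
  let ρ : Representation ℂ (Matrix.symplecticGroup (Fin n) F) (Fin d → ℂ) :=
    { toFun := fun g => e.conj (weilP h2 ε g)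
      map_one' := by rw [map_one]; exact e.conj_id
      map_mul' := fun g h => by rw [map_mul]; exact (e.conj_comp _ _) }
  have hρ : ∀ g f, ρ g (e f) = e (weilP h2 ε g f) := fun g f => by simp [ρ, LinearEquiv.conj_apply]
  haveI := weilP_irreducible h2 hn hε
  refine ⟨d, ρ, (OrderIso.isSimpleOrder_iff (α := Subrepresentation (weilP (F := F) (n := n) h2 ε)) ?_).1 inferInstance,
    finrank_Wpar h2 ε (by rcases hε with rfl | rfl <;> norm_num)⟩
  exact
    { toFun := fun U => ⟨U.toSubmodule.map e.toLinearMap, by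
        rintro g _ ⟨f, hf, rfl⟩
        exact ⟨weilP h2 ε g f, U.apply_mem_toSubmodule g hf, (hρ g f).symm⟩⟩
      invFun := fun U => ⟨U.toSubmodule.comap e.toLinearMap, fun g f hf => by
        rw [Submodule.mem_comap] at hf ⊢
        rw [LinearEquiv.coe_coe, ← hρ]
        exact U.apply_mem_toSubmodule g hf⟩
      left_inv := fun U => Subrepresentation.ext (Submodule.comap_map_eq_of_injective e.injective _)
      right_inv := fun U => Subrepresentation.ext (Submodule.map_comap_eq_of_surjective e.surjective _)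
      map_rel_iff' := fun {U U'} => by
        show U.toSubmodule.map e.toLinearMap ≤ U'.toSubmodule.map e.toLinearMap ↔ U.toSubmodule ≤ U'.toSubmodule
        exact Submodule.map_le_map_iff_of_injective e.injective _ _ }

omit h2

/-- Multiplication of the first half of the coordinates by a scalar. -/
def sim (ν : F) (x : V2 F n) : V2 F n := Sum.elim (ν • fs x) (sn x)

/-- The block matrix of a similitude. -/
def simM (ν : F) : Matrix (Fin n ⊕ Fin n) (Fin n ⊕ Fin n) F := fromBlocks (ν • 1) 0 0 1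

theorem simM_mul (a b : F) : simM (n := n) a * simM b = simM (a * b) := by
  simp [simM, fromBlocks_multiply, smul_smul, mul_comm b a]

theorem simM_one : simM (n := n) (1 : F) = 1 := by simp [simM, fromBlocks_one]

theorem simM_J (ν : F) : simM (n := n) ν * Matrix.J (Fin n) F * (simM ν)ᵀ = ν • Matrix.J (Fin n) F := by
  simp [simM, Matrix.J, fromBlocks_transpose, fromBlocks_multiply, fromBlocks_smul]

theorem simM_conj_mem (ν : Fˣ) {A : Matrix (Fin n ⊕ Fin n) (Fin n ⊕ Fin n) F}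
    (hA : A ∈ Matrix.symplecticGroup (Fin n) F) :
    simM (ν : F) * A * simM ((ν⁻¹ : Fˣ) : F) ∈ Matrix.symplecticGroup (Fin n) F := by
  rw [SymplecticGroup.mem_iff] at hA ⊢
  rw [transpose_mul, transpose_mul]
  calc simM (ν : F) * A * simM ((ν⁻¹ : Fˣ) : F) * Matrix.J (Fin n) F *
        ((simM ((ν⁻¹ : Fˣ) : F))ᵀ * (Aᵀ * (simM (ν : F))ᵀ))
      = simM (ν : F) * A * (simM ((ν⁻¹ : Fˣ) : F) * Matrix.J (Fin n) F * (simM ((ν⁻¹ : Fˣ) : F))ᵀ) * Aᵀ *
          (simM (ν : F))ᵀ := by simp only [Matrix.mul_assoc]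
    _ = ((ν⁻¹ : Fˣ) : F) • (simM (ν : F) * (A * Matrix.J (Fin n) F * Aᵀ) * (simM (ν : F))ᵀ) := by
        rw [simM_J]; simp only [Matrix.mul_assoc, Matrix.smul_mul, Matrix.mul_smul]
    _ = Matrix.J (Fin n) F := by rw [hA, simM_J, smul_smul, Units.inv_mul, one_smul]

/-- Conjugation by a similitude. -/
def twist (ν : Fˣ) : Matrix.symplecticGroup (Fin n) F →* Matrix.symplecticGroup (Fin n) F where
  toFun g := ⟨simM (ν : F) * g.1 * simM ((ν⁻¹ : Fˣ) : F), simM_conj_mem ν g.2⟩
  map_one' := Subtype.ext (by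
    show simM (ν : F) * 1 * simM ((ν⁻¹ : Fˣ) : F) = 1
    rw [Matrix.mul_one, simM_mul, Units.mul_inv, simM_one])
  map_mul' g h := Subtype.ext (by
    show simM (ν : F) * (g.1 * h.1) * simM ((ν⁻¹ : Fˣ) : F) =
      simM (ν : F) * g.1 * simM ((ν⁻¹ : Fˣ) : F) * (simM (ν : F) * h.1 * simM ((ν⁻¹ : Fˣ) : F))
    have e : simM (n := n) ((ν⁻¹ : Fˣ) : F) * simM (ν : F) = 1 := by rw [simM_mul, Units.inv_mul, simM_one]
    simp only [Matrix.mul_assoc]
    rw [← Matrix.mul_assoc (simM ((ν⁻¹ : Fˣ) : F)) (simM (ν : F)), e, Matrix.one_mul])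

theorem twist_surj (ν : Fˣ) : Function.Surjective (twist (F := F) (n := n) ν) := fun g => by
  refine ⟨twist ν⁻¹ g, Subtype.ext ?_⟩
  show simM (ν : F) * (simM ((ν⁻¹ : Fˣ) : F) * g.1 * simM ((ν⁻¹⁻¹ : Fˣ) : F)) * simM ((ν⁻¹ : Fˣ) : F) = g.1
  simp only [Matrix.mul_assoc, inv_inv]
  rw [simM_mul, Units.mul_inv, simM_one, Matrix.mul_one, ← Matrix.mul_assoc, simM_mul, Units.mul_inv, simM_one,
    Matrix.one_mul]

theorem twist_sieg (ν : Fˣ) (S : Sym F n) : twist ν (sieg S) = sieg ((ν : F) • S) := by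
  refine Subtype.ext ?_
  show fromBlocks _ _ _ _ * fromBlocks 1 S.1 0 1 * fromBlocks _ _ _ _ = fromBlocks 1 ((ν : F) • S.1) 0 1
  simp [fromBlocks_multiply, smul_smul]

theorem twist_irr {V : Type*} [AddCommGroup V] [Module ℂ V]
    (ρ : Representation ℂ (Matrix.symplecticGroup (Fin n) F) V) (hρ : ρ.IsIrreducible) (ν : Fˣ) :
    Representation.IsIrreducible (ρ.comp (twist ν)) := by
  haveI : IsSimpleOrder (Subrepresentation ρ) := hρ
  refine (OrderIso.isSimpleOrder_iff (α := Subrepresentation ρ) ?_).1 inferInstance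
  exact
    { toFun := fun U => ⟨U.toSubmodule, fun g v hv => U.apply_mem_toSubmodule (twist ν g) hv⟩
      invFun := fun U => ⟨U.toSubmodule, fun g v hv => by
        obtain ⟨g', rfl⟩ := twist_surj ν g
        exact U.apply_mem_toSubmodule g' hv⟩
      left_inv := fun U => rfl
      right_inv := fun U => rfl
      map_rel_iff' := Iff.rfl }

end CfsgLib.SympWeil
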