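import Mathlib
import Cfsg.Agent.Lib.SympWeil.Class.Exist

/-! The classes of rank one spectrum, and the count of Weil characters. -/

set_option autoImplicit false
set_option linter.unusedSectionVars false
set_option maxHeartbeats 800000

namespace CfsgLib.SympWeil

open Matrix Module

variable {F : Type*} [Field F] [Fintype F] [DecidableEq F] {n : ℕ}
variable {V : Type*} [AddCommGroup V] [Module ℂ V]
variable (ρ : Representation ℂ (Matrix.symplecticGroup (Fin n) F) V)

theorem finrank_one_of_sieg (hirr : ρ.IsIrreducible) [FiniteDimensional ℂ V] (i : Fin n)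
    (h : ∀ S, ρ (sieg S) = 1) : finrank ℂ V = 1 := by
  haveI : IsSimpleOrder (Subrepresentation ρ) := hirr
  have hall : ∀ g, ρ g = 1 := by
    let K : Subgroup (Matrix.symplecticGroup (Fin n) F) := MonoidHom.ker ρ.toHomUnits
    have hmem : ∀ g, g ∈ K ↔ ρ g = 1 := fun g => by
      show ρ.toHomUnits g = 1 ↔ _
      rw [Units.ext_iff]; rfl
    intro g
    have hg : g ∈ K := by
      have htop : (⊤ : Subgroup (Matrix.symplecticGroup (Fin n) F)) ≤ K := by
        rw [← SympGen.TV_eq_top (F := F) (m := n)]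
        refine (Subgroup.closure_le _).2 ?_
        rintro A ⟨u, c, hA⟩
        obtain rfl : A = SympTransvection.tv u c := Subtype.ext hA
        by_cases hu : u = 0
        · subst hu
          rw [show SympTransvection.tv (0 : V2 F n) c = 1 from ext_act fun x => by
            rw [SympGen.tv_apply, SympGen.one_apply, smul_zero, add_zero]]
          exact one_mem K
        · obtain ⟨h', hh⟩ := SympTransvection.transitive (v := Sum.elim (Pi.single i (1 : F)) 0) (w := u)
            (fun h0 => by simpa using congrFun h0 (Sum.inl i)) hu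
          rw [← hh, ← SympGen.conj_tv, tv_inl]
          exact Subgroup.Normal.conj_mem inferInstance _ ((hmem _).2 (h _)) h'
      exact htop (Subgroup.mem_top g)
    exact (hmem g).1 hg
  obtain ⟨v, hv⟩ : ∃ v : V, v ≠ 0 := by
    by_contra hcon
    push Not at hcon
    exact (bot_ne_top : (⊥ : Subrepresentation ρ) ≠ ⊤)
      (Subrepresentation.ext (Submodule.ext fun x => by simp [hcon x]))
  let U : Subrepresentation ρ := ⟨ℂ ∙ v, fun g x hx => by rw [hall g]; exact hx⟩
  rcases IsSimpleOrder.eq_bot_or_eq_top U with hU | hU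
  · exact absurd (Submodule.span_singleton_eq_bot.1 (congrArg Subrepresentation.toSubmodule hU)) hv
  · have e : (ℂ ∙ v) = ⊤ := congrArg Subrepresentation.toSubmodule hU
    have := finrank_span_singleton (K := ℂ) hv
    rwa [e, finrank_top] at this

theorem exists_rank_one (hlow : LowRep ρ) (hirr : ρ.IsIrreducible) [FiniteDimensional ℂ V] (i : Fin n)
    (h1 : finrank ℂ V ≠ 1) : ∃ c z, c ≠ 0 ∧ z ≠ 0 ∧ Occurs ρ (rk1 c z) := by
  by_contra hcon
  push Not at hcon
  refine h1 (finrank_one_of_sieg ρ hirr i fun S => LinearMap.ext fun x => ?_)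
  have hz : ∀ l, l ≠ 0 → pr ρ l x = 0 := fun l hl => by
    by_contra hne
    have ho : Occurs ρ l := fun h0 => hne (by rw [h0]; rfl)
    obtain ⟨c, z, rfl⟩ := hlow l ho
    exact hcon c z (fun h0 => hl (LinearMap.ext fun T => by rw [rk1_apply, h0, zero_mul]; rfl))
      (fun h0 => hl (by rw [h0, rk1_zero])) ho
  have e : pr ρ 0 x = x := by
    conv_rhs => rw [← sum_pr ρ x]
    exact (Finset.sum_eq_single 0 (fun l _ hl => hz l hl) (by simp)).symm
  have := pr_eigv ρ 0 x S
  rw [e] at this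
  rw [this, LinearMap.zero_apply, AddChar.map_zero_eq_one, one_smul, Module.End.one_apply]

theorem exists_dat [FiniteDimensional ℂ V] (h2 : (2 : F) ≠ 0) (hn : 2 ≤ n) (hlow : LowRep ρ)
    (hirr : ρ.IsIrreducible) (h1 : finrank ℂ V ≠ 1) {ν : F} (hν : ¬ IsSquare ν) :
    ∃ D : Dat ρ, D.c = 1 ∨ D.c = ν := by
  classical
  let i₀ : Fin n := ⟨0, by omega⟩
  let i₁ : Fin n := ⟨1, by omega⟩
  have h10 : i₁ ≠ i₀ := fun h => by simp [i₀, i₁] at h
  obtain ⟨c, z, hc, hz, hocc⟩ := exists_rank_one ρ hlow hirr i₀ h1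
  have hF : ringChar F ≠ 2 := fun h => h2 (by haveI := ringChar.of_eq h; exact CharTwo.two_eq_zero)
  have hν0 : ν ≠ 0 := fun h => hν (h ▸ ⟨0, by ring⟩)
  obtain ⟨κ, r, hr, hκ, rfl⟩ : ∃ κ r : F, r ≠ 0 ∧ (κ = 1 ∨ κ = ν) ∧ c = κ * r ^ 2 := by
    by_cases hs : IsSquare c
    · obtain ⟨r, rfl⟩ := hs
      exact ⟨1, r, fun h => hc (by rw [h, zero_mul]), Or.inl rfl, by ring⟩
    · have hsq : IsSquare (c / ν) := by
        rw [← quadraticChar_one_iff_isSquare (div_ne_zero hc hν0), div_eq_mul_inv, map_mul,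
          quadraticChar_neg_one_iff_not_isSquare.2 hs,
          quadraticChar_neg_one_iff_not_isSquare.2 (fun h => hν (by simpa using h.inv))]
        norm_num
      obtain ⟨r, hr⟩ := hsq
      refine ⟨ν, r, fun h => div_ne_zero hc hν0 (by rw [hr, h, zero_mul]), Or.inr rfl, ?_⟩
      rw [pow_two, ← hr]; field_simp
  rw [← rk1_smul] at hocc
  obtain ⟨g, hg⟩ := exists_gl (smul_ne_zero hr hz)
    (fun h => by simpa using congrFun h i₀ : (Pi.single i₀ 1 : Fin n → F) ≠ 0)
  have h := occurs_cg ρ hocc g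
  rw [rk1_cg, hg] at h
  obtain ⟨x, hx⟩ : ∃ x, pr ρ (rk1 κ (Pi.single i₀ 1)) x ≠ 0 := by
    by_contra hcon
    push Not at hcon
    exact h (LinearMap.ext hcon)
  have hκ0 : κ ≠ 0 := fun h0 => hc (by rw [h0, zero_mul])
  exact ⟨⟨h2, hlow, hirr, inferInstance, κ, hκ0, i₀, i₁, h10, _, hx, pr_eigv ρ _ x⟩, hκ⟩

variable {ρ}

theorem pr_trace (l : Sym F n →ₗ[F] F) [FiniteDimensional ℂ V] :
    LinearMap.trace ℂ V (pr ρ l) = (Fintype.card (Sym F n) : ℂ)⁻¹ * ∑ S : Sym F n, ψ (l (-S)) * ρ.character (sieg S) := by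
  simp only [pr, map_smul, map_sum, smul_eq_mul]
  rfl

theorem pr_trace_ne {l : Sym F n →ₗ[F] F} [FiniteDimensional ℂ V] (h : Occurs ρ l) :
    LinearMap.trace ℂ V (pr ρ l) ≠ 0 := by
  have hp : LinearMap.IsProj (LinearMap.range (pr ρ l)) (pr ρ l) :=
    ⟨fun x => LinearMap.mem_range_self _ x, by rintro _ ⟨x, rfl⟩; exact pr_self ρ (pr_eigv ρ l x)⟩
  rw [hp.trace]
  intro h0
  have := Submodule.finrank_eq_zero.1 (Nat.cast_eq_zero.1 h0)
  exact h (LinearMap.range_eq_bot.1 this)

/-- Equal characters have the same spectrum. -/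
theorem occurs_of_char {V' : Type*} [AddCommGroup V'] [Module ℂ V'] [FiniteDimensional ℂ V] [FiniteDimensional ℂ V']
    {ρ' : Representation ℂ (Matrix.symplecticGroup (Fin n) F) V'} (h : ρ.character = ρ'.character)
    {l : Sym F n →ₗ[F] F} (hl : Occurs ρ l) : Occurs ρ' l := fun h0 => pr_trace_ne hl (by
  have := congrArg (LinearMap.trace ℂ V') h0
  rw [pr_trace, map_zero, ← h, ← pr_trace] at this
  exact this)

end CfsgLib.SympWeil
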